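import Cfsg.Agent.H904.L34.Ext
import Cfsg.Agent.H118.L34.St

/-!
# S5917, type D (D2, S-side): the fixed vectors of a subgroup on a Steinberg module are traces (helper902)
-/

set_option autoImplicit false
set_option linter.unusedSectionVars false

namespace Cfsg.Agent.H902.NN

open Matrix Cfsg.Agent.H691.L34 Cfsg.Agent.H904.L34

section gen

variable {G : Type*} [Group G] [Finite G] {V : Type*} [AddCommGroup V] [Module (ZMod 2) V]

/-- the transversal -/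
noncomputable def tv (R : Subgroup G) (p : (G ⧸ R) × R) : G := p.1.out * (p.2 : G)

theorem tv_bij (R : Subgroup G) : Function.Bijective (tv R) := by
  constructor
  · rintro ⟨q, r⟩ ⟨q', r'⟩ h
    have h' : q.out * (r : G) = q'.out * (r' : G) := h
    have e1 : ((q.out * (r : G) : G) : G ⧸ R) = q := by
      rw [QuotientGroup.mk_mul_of_mem _ r.2]
      exact Quotient.out_eq' q
    have e2 : ((q'.out * (r' : G) : G) : G ⧸ R) = q' := by
      rw [QuotientGroup.mk_mul_of_mem _ r'.2]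
      exact Quotient.out_eq' q'
    rw [h', e2] at e1
    subst e1
    have h3 := mul_left_cancel h'
    exact congrArg _ (Subtype.ext h3)
  · intro g
    obtain ⟨r, hr⟩ := QuotientGroup.mk_out_eq_mul R g
    refine ⟨((g : G ⧸ R), r⁻¹), ?_⟩
    show Quotient.out (g : G ⧸ R) * ((r⁻¹ : R) : G) = g
    rw [hr, Subgroup.coe_inv, mul_inv_cancel_right]

/-- a fixed vector is a trace -/
theorem exists_tr (ρ : Representation (ZMod 2) G V) (R : Subgroup G) {W : Submodule (ZMod 2) V}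
    (hW : ∀ g, ∀ x ∈ W, ρ g x ∈ W) (θ : V →ₗ[ZMod 2] V) (hθ : ∀ x, θ x ∈ W) {v : V} [Fintype G]
    (hs : ∑ g : G, ρ g (θ (ρ g⁻¹ v)) = v) (hv : ∀ r ∈ R, ρ r v = v) : ∃ y ∈ W, av ρ R y = v := by
  classical
  letI := Fintype.ofFinite R
  letI := Fintype.ofFinite (G ⧸ R)
  refine ⟨∑ q : G ⧸ R, ρ q.out⁻¹ (θ (ρ q.out v)), Submodule.sum_mem _ fun q _ => hW _ _ (hθ _), ?_⟩
  have h1 : ∑ g : G, ρ g⁻¹ (θ (ρ g v)) = v := by
    refine Eq.trans ?_ hs
    refine Fintype.sum_equiv (Equiv.inv G) _ _ fun g => ?_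
    rw [Equiv.inv_apply, inv_inv]
  rw [← (tv_bij R).sum_comp, Fintype.sum_prod_type, Finset.sum_comm] at h1
  rw [av_apply]
  refine Eq.trans ?_ h1
  refine Fintype.sum_equiv (Equiv.inv R) _ _ fun r => ?_
  rw [map_sum]
  refine Finset.sum_congr rfl fun q _ => ?_
  have e1 : (Equiv.inv R r : R) = r⁻¹ := rfl
  rw [e1]
  show ρ (r : G) _ = ρ (q.out * ((r⁻¹ : R) : G))⁻¹ (θ (ρ (q.out * ((r⁻¹ : R) : G)) v))
  rw [_root_.mul_inv_rev, map_mul, map_mul ρ q.out, Module.End.mul_apply, Module.End.mul_apply, hv _ (r⁻¹).2,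
    Subgroup.coe_inv, inv_inv]

/-- from a subgroup of odd index -/
theorem sum_full (ρ : Representation (ZMod 2) G V) (U : Subgroup G) {W : Submodule (ZMod 2) V}
    (hW : ∀ g, ∀ x ∈ W, ρ g x ∈ W) (θ : V →ₗ[ZMod 2] V) [Fintype G] [Fintype U]
    (hU : ∀ y ∈ W, ∑ u : U, ρ (u : G) (θ (ρ (u : G)⁻¹ y)) = y) (hodd : Odd (Nat.card (G ⧸ U))) :
    ∀ y ∈ W, ∑ g : G, ρ g (θ (ρ g⁻¹ y)) = y := by
  classical
  letI := Fintype.ofFinite (G ⧸ U)
  intro y hy
  rw [← (tv_bij U).sum_comp, Fintype.sum_prod_type]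
  have h1 : ∀ q : G ⧸ U, ∑ u : U, ρ (tv U (q, u)) (θ (ρ (tv U (q, u))⁻¹ y)) = y := by
    intro q
    have h2 := hU _ (hW q.out⁻¹ _ hy)
    have h3 : ρ q.out (∑ u : U, ρ (u : G) (θ (ρ (u : G)⁻¹ (ρ q.out⁻¹ y)))) = y := by
      rw [h2, ← Module.End.mul_apply, ← map_mul, mul_inv_cancel, map_one]
      rfl
    rw [map_sum] at h3
    refine Eq.trans ?_ h3
    refine Finset.sum_congr rfl fun u _ => ?_
    show ρ (q.out * (u : G)) (θ (ρ (q.out * (u : G))⁻¹ y)) = _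
    rw [_root_.mul_inv_rev, map_mul, map_mul ρ (u : G)⁻¹]
    rfl
  rw [Finset.sum_congr rfl fun q _ => h1 q, Finset.sum_const, Finset.card_univ, ← Nat.card_eq_fintype_card]
  exact odd_smul hodd y

end gen

section st

variable {F : Type} [Field F] [Fintype F] {V : Type} [AddCommGroup V] [Module (ZMod 2) V] [Module.Finite (ZMod 2) V]
  {ρ : Representation (ZMod 2) (G3 F) V}

open Cfsg.Agent.H118.L34 (Lm Lm_apply Lm_reg Lm_inj range_Lm reg reg_apply Pm Pm_apply)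

/-- the functional of a Steinberg module -/
theorem exists_theta (hF : Fintype.card F = 4) {W : Submodule (ZMod 2) V} (hW : Inv ρ W) (h : Is64 ρ W)
    [Fintype (G3 F)] : ∃ θ : V →ₗ[ZMod 2] V, (∀ x, θ x ∈ W) ∧ ∀ y ∈ W, ∑ g : G3 F, ρ g (θ (ρ g⁻¹ y)) = y := by
  classical
  letI := Fintype.ofFinite (UU F)
  obtain ⟨hD, w, hwW, hw⟩ := h
  have hr := range_Lm hF hW hD.1 hwW hw
  obtain ⟨N, hN⟩ := LinearMap.exists_leftInverse_of_injective (Lm ρ w) (Lm_inj hF hw)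
  let μ : V →ₗ[ZMod 2] ZMod 2 := (LinearMap.proj (1 : UU F)).comp N
  have hμ : ∀ f, μ (Lm ρ w f) = f 1 := by
    intro f
    have h1 : N (Lm ρ w f) = f := LinearMap.congr_fun hN f
    show N (Lm ρ w f) 1 = f 1
    rw [h1]
  let θ : V →ₗ[ZMod 2] V := μ.smulRight w
  have hθ : ∀ x, θ x = μ x • w := fun x => rfl
  refine ⟨θ, fun x => W.smul_mem _ hwW, sum_full ρ (UU F) hW θ ?_ ?_⟩
  · intro y hy
    rw [← hr] at hy
    obtain ⟨f, rfl⟩ := hy
    conv_rhs => rw [Lm_apply]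
    refine Finset.sum_congr rfl fun u _ => ?_
    rw [hθ, map_smul]
    congr 1
    rw [← Subgroup.coe_inv, ← Lm_reg, hμ, reg_apply, inv_inv, mul_one]
  · have h3 := (UU F).card_mul_index
    rw [Cfsg.Agent.H118.L34.card_UU hF, Cfsg.Agent.H118.L34.card_G3 hF] at h3
    change 64 * Nat.card (G3 F ⧸ UU F) = 60480 at h3
    have h4 : Nat.card (G3 F ⧸ UU F) = 945 := by omega
    rw [h4]
    decide

/-- **a vector of a Steinberg module fixed by `R` is a trace** -/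
theorem st_trace (hF : Fintype.card F = 4) {W : Submodule (ZMod 2) V} (hW : Inv ρ W) (h : Is64 ρ W)
    (R : Subgroup (G3 F)) {v : V} (hvW : v ∈ W) (hv : ∀ r ∈ R, ρ r v = v) : ∃ y ∈ W, av ρ R y = v := by
  classical
  letI : Fintype (G3 F) := Fintype.ofFinite _
  obtain ⟨θ, h1, h2⟩ := exists_theta hF hW h
  exact exists_tr ρ R hW θ h1 (h2 v hvW) hv

end st

end Cfsg.Agent.H902.NN
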