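import Cfsg.Agent.H902.L34.Sixteen
import Cfsg.Agent.H482.LF.SimpB
import Cfsg.Agent.H904.L34.Ext
import Cfsg.Agent.H118.L34.St
import Cfsg.Agent.H902.L34.TrSt
import Cfsg.Agent.H592.L34.ExistsNine
import Cfsg.Agent.H170.L34.H16
import Cfsg.Agent.LieClassical.SLGen

/-!
# S5917, type D (D2, S-side): modules without composition factor 9 (helper902)
-/

set_option autoImplicit false
set_option linter.unusedSectionVars false
set_option linter.unusedSimpArgs false

namespace Cfsg.Agent.H902.NN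

open Matrix Cfsg.Agent.H691.L34
open Cfsg.Agent.H118.L34 (qr qr_mk mem_fx finrank_fx finrank_map_mkQ exists_simp inv_quot inv_comap)

variable {F : Type} [Field F] [Fintype F]

section defs

variable {V : Type} [AddCommGroup V] [Module (ZMod 2) V]

/-- the vectors of `B` fixed modulo `A` -/
def Fx (ρ : Representation (ZMod 2) (G3 F) V) (A B : Submodule (ZMod 2) V) : Submodule (ZMod 2) V where
  carrier := {v | v ∈ B ∧ ∀ g, ρ g v - v ∈ A}
  add_mem' := by
    rintro a b ⟨h1, h2⟩ ⟨h3, h4⟩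
    refine ⟨B.add_mem h1 h3, fun g => ?_⟩
    have e : ρ g (a + b) - (a + b) = (ρ g a - a) + (ρ g b - b) := by rw [map_add]; abel
    rw [e]
    exact A.add_mem (h2 g) (h4 g)
  zero_mem' := ⟨B.zero_mem, fun g => by rw [map_zero, sub_zero]; exact A.zero_mem⟩
  smul_mem' := by
    rintro c a ⟨h1, h2⟩
    refine ⟨B.smul_mem c h1, fun g => ?_⟩
    rw [map_smul, ← smul_sub]
    exact A.smul_mem c (h2 g)

theorem mem_Fx {ρ : Representation (ZMod 2) (G3 F) V} {A B : Submodule (ZMod 2) V} {v : V} :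
    v ∈ Fx ρ A B ↔ v ∈ B ∧ ∀ g, ρ g v - v ∈ A := Iff.rfl

/-- the sum over `R` -/
noncomputable def TrR (ρ : Representation (ZMod 2) (G3 F) V) (v : V) : V :=
  ∑ᶠ g : {g : G3 F // hact g (1 : M3 F) = 1}, ρ (g : G3 F) v

/-- the numbers of `B / A` -/
def Num (ρ : Representation (ZMod 2) (G3 F) V) (A B : Submodule (ZMod 2) V) (a b c d : ℕ) : Prop :=
  Module.finrank (ZMod 2) B = Module.finrank (ZMod 2) A + (a + 16 * b + 9 * c + 64 * d) ∧
  (∀ g : G3 F, orderOf g = 3 → g ∉ Subgroup.center (G3 F) → Module.finrank (ZMod 2) (fx ρ g B) =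
    Module.finrank (ZMod 2) (fx ρ g A) + (a + 4 * b + 3 * c + 22 * d)) ∧
  (∀ g : G3 F, orderOf g = 5 → Module.finrank (ZMod 2) (fx ρ g B) =
    Module.finrank (ZMod 2) (fx ρ g A) + (a + 4 * b + c + 12 * d)) ∧
  ∀ g : G3 F, orderOf g = 7 → Module.finrank (ZMod 2) (fx ρ g B) =
    Module.finrank (ZMod 2) (fx ρ g A) + (a + 4 * b + 10 * d)

end defs

section main

variable {V : Type} [AddCommGroup V] [Module (ZMod 2) V] [Module.Finite (ZMod 2) V]
  {ρ : Representation (ZMod 2) (G3 F) V}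

theorem num_unique (hF : Fintype.card F = 4) {A B : Submodule (ZMod 2) V} {a b c d a' b' c' d' : ℕ}
    (h : Num ρ A B a b c d) (h' : Num ρ A B a' b' c' d') : a = a' ∧ b = b' ∧ c = c' ∧ d = d' := by
  obtain ⟨g3, hg3, hg3c⟩ := Cfsg.Agent.H592.L34.exists_three (F := F) hF
  obtain ⟨g5, hg5⟩ := Cfsg.Agent.H592.L34.exists_order (F := F) hF (p := 5) (by norm_num) (by norm_num)
  obtain ⟨g7, hg7⟩ := Cfsg.Agent.H592.L34.exists_order (F := F) hF (p := 7) (by norm_num) (by norm_num)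
  obtain ⟨h1, h2, h3, h4⟩ := h
  obtain ⟨k1, k2, k3, k4⟩ := h'
  have e2 := h2 g3 hg3 hg3c
  have e3 := h3 g5 hg5
  have e4 := h4 g7 hg7
  rw [k2 g3 hg3 hg3c] at e2
  rw [k3 g5 hg5] at e3
  rw [k4 g7 hg7] at e4
  rw [k1] at h1
  omega

theorem num_add {A A' B : Submodule (ZMod 2) V} {a b c d a' b' c' d' : ℕ}
    (h : Num ρ A A' a b c d) (h' : Num ρ A' B a' b' c' d') : Num ρ A B (a + a') (b + b') (c + c') (d + d') := by
  obtain ⟨h1, h2, h3, h4⟩ := h
  obtain ⟨k1, k2, k3, k4⟩ := h'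
  refine ⟨by omega, fun g hg hgc => ?_, fun g hg => ?_, fun g hg => ?_⟩
  · have e1 := h2 g hg hgc
    have e2 := k2 g hg hgc
    omega
  · have e1 := h3 g hg
    have e2 := k3 g hg
    omega
  · have e1 := h4 g hg
    have e2 := k4 g hg
    omega

theorem le_comap {A : Submodule (ZMod 2) V} (W : Submodule (ZMod 2) (V ⧸ A)) : A ≤ W.comap A.mkQ := by
  intro x hx
  rw [Submodule.mem_comap]
  have h1 : A.mkQ x = 0 := by
    rw [Submodule.mkQ_apply, Submodule.Quotient.mk_eq_zero]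
    exact hx
  rw [h1]
  exact Submodule.zero_mem _

theorem num_of_dims {A : Submodule (ZMod 2) V} (hA : Inv ρ A) {W : Submodule (ZMod 2) (V ⧸ A)}
    (hW : Inv (qr ρ A hA) W) {a b c d : ℕ} (hd : Dims (qr ρ A hA) W (a + 16 * b + 9 * c + 64 * d)
      (a + 4 * b + 3 * c + 22 * d) (a + 4 * b + c + 12 * d) (a + 4 * b + 10 * d)) :
    Num ρ A (W.comap A.mkQ) a b c d := by
  have hA'i : Inv ρ (W.comap A.mkQ) := inv_comap hA hW
  have hAA' := le_comap W
  have hmapA' : (W.comap A.mkQ).map A.mkQ = W := Submodule.map_comap_eq_of_surjective A.mkQ_surjective W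
  have hfr := finrank_map_mkQ hAA'
  rw [hmapA', hd.1] at hfr
  refine ⟨by omega, fun g hg hgc => ?_, fun g hg => ?_, fun g hg => ?_⟩
  · have e := finrank_fx hA hA'i hAA' (by decide : Odd 3) (orderOf_dvd_iff_pow_eq_one.1 hg.dvd)
    rw [hmapA', hd.2.1 g hg hgc] at e
    omega
  · have e := finrank_fx hA hA'i hAA' (by decide : Odd 5) (orderOf_dvd_iff_pow_eq_one.1 hg.dvd)
    rw [hmapA', hd.2.2.1 g hg] at e
    omega
  · have e := finrank_fx hA hA'i hAA' (by decide : Odd 7) (orderOf_dvd_iff_pow_eq_one.1 hg.dvd)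
    rw [hmapA', hd.2.2.2 g hg] at e
    omega

theorem mk_zero_iff {A : Submodule (ZMod 2) V} {x : V} : A.mkQ x = 0 ↔ x ∈ A := by
  rw [Submodule.mkQ_apply, Submodule.Quotient.mk_eq_zero]

/-- the step for a trivial module -/
theorem triv_step (hF : Fintype.card F = 4) {A : Submodule (ZMod 2) V} (hA : Inv ρ A)
    {W : Submodule (ZMod 2) (V ⧸ A)} (ht : ∀ w ∈ W, ∀ g, qr ρ A hA g w = w) {v : V}
    (hv : ∀ g, ρ g v - v ∈ W.comap A.mkQ) (g : G3 F) : ρ g v - v ∈ A := by
  have hperf : commutator (G3 F) = ⊤ := Cfsg.Agent.LieClassical.SLGen.commutator_eq_top (by rw [Fintype.card_fin])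
  have hw : ∀ g, A.mkQ (ρ g v - v) ∈ W := hv
  let f : G3 F →* Multiplicative (V ⧸ A) :=
    { toFun := fun g => Multiplicative.ofAdd (A.mkQ (ρ g v - v))
      map_one' := by
        show Multiplicative.ofAdd (A.mkQ (ρ 1 v - v)) = 1
        rw [map_one]
        show Multiplicative.ofAdd (A.mkQ (v - v)) = 1
        rw [sub_self, map_zero]
        rfl
      map_mul' := fun g h => by
        show A.mkQ (ρ (g * h) v - v) = A.mkQ (ρ g v - v) + A.mkQ (ρ h v - v)
        have e : ρ (g * h) v - v = (ρ g v - v) + ρ g (ρ h v - v) := by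
          rw [map_mul, Module.End.mul_apply, map_sub]
          abel
        rw [e, map_add, ← qr_mk ρ A hA g (ρ h v - v), ht _ (hw h) g] }
  have h1 : f g = 1 := by
    have h2 : g ∈ f.ker := by
      apply Abelianization.commutator_subset_ker f
      rw [hperf]
      exact Subgroup.mem_top g
    exact h2
  exact mk_zero_iff.1 h1

theorem fx_le {A A' B : Submodule (ZMod 2) V} (h : A ≤ A') : Fx ρ A B ≤ Fx ρ A' B :=
  fun _ hv => ⟨hv.1, fun g => h (hv.2 g)⟩

theorem le_Fx {A B : Submodule (ZMod 2) V} (hA : Inv ρ A) (h : A ≤ B) : A ≤ Fx ρ A B :=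
  fun v hv => ⟨h hv, fun g => A.sub_mem (hA g v hv) hv⟩

/-- the step for a module which splits -/
theorem split_step {A B : Submodule (ZMod 2) V} (hA : Inv ρ A) (hAB : A ≤ B)
    {W : Submodule (ZMod 2) (V ⧸ A)} (hWi : Inv (qr ρ A hA) W) (hWB : W.comap A.mkQ ≤ B)
    (hsplit : ∀ x : V ⧸ A, (∀ g, qr ρ A hA g x - x ∈ W) → ∃ w ∈ W, ∀ g, qr ρ A hA g (x - w) = x - w)
    (hfix : ∀ w ∈ W, (∀ g, qr ρ A hA g w = w) → w = 0) :
    Module.finrank (ZMod 2) (Fx ρ (W.comap A.mkQ) B) = Module.finrank (ZMod 2) W + Module.finrank (ZMod 2) (Fx ρ A B) := by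
  set A' := W.comap A.mkQ with hA'
  have hAA' : A ≤ A' := le_comap W
  have h1 : A ≤ Fx ρ A B := le_Fx hA hAB
  have h2 : A ≤ Fx ρ A' B := h1.trans (fx_le hAA')
  have e1 := finrank_map_mkQ h1
  have e2 := finrank_map_mkQ h2
  have e3 : W ⊔ (Fx ρ A B).map A.mkQ = (Fx ρ A' B).map A.mkQ := by
    apply le_antisymm
    · refine sup_le ?_ (Submodule.map_mono (fx_le hAA'))
      intro w hw
      obtain ⟨x, rfl⟩ := A.mkQ_surjective w
      refine ⟨x, ⟨hWB hw, fun g => ?_⟩, rfl⟩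
      show A.mkQ (ρ g x - x) ∈ W
      rw [map_sub, ← qr_mk ρ A hA]
      exact W.sub_mem (hWi g _ hw) hw
    · rintro _ ⟨x, hx, rfl⟩
      obtain ⟨w, hw, hf⟩ := hsplit (A.mkQ x) fun g => by
        rw [qr_mk, ← map_sub]
        exact hx.2 g
      obtain ⟨y, rfl⟩ := A.mkQ_surjective w
      have h3 : A.mkQ x = A.mkQ y + A.mkQ (x - y) := by rw [map_sub]; abel
      rw [h3]
      refine Submodule.add_mem_sup hw ⟨x - y, ⟨B.sub_mem hx.1 (hWB hw), fun g => ?_⟩, rfl⟩
      have h4 := hf g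
      rw [← map_sub, qr_mk] at h4
      rw [← mk_zero_iff, map_sub, h4, sub_self]
  have e4 : W ⊓ (Fx ρ A B).map A.mkQ = ⊥ := by
    rw [eq_bot_iff]
    rintro w ⟨hw, x, hx, rfl⟩
    refine hfix _ hw fun g => ?_
    rw [qr_mk, ← sub_eq_zero, ← map_sub, mk_zero_iff]
    exact hx.2 g
  have e5 := Submodule.finrank_sup_add_finrank_inf_eq W ((Fx ρ A B).map A.mkQ)
  rw [e3, e4, finrank_bot] at e5
  omega


open Cfsg.Agent.H904.L34 (av av_apply av_mem odd_smul RR mem_RR g1 g2 mem_R_g1 mem_R_g2 mem_VE VE)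

theorem av_qr {A : Submodule (ZMod 2) V} (hA : Inv ρ A) (R : Subgroup (G3 F)) (x : V) :
    av (qr ρ A hA) R (A.mkQ x) = A.mkQ (av ρ R x) := by
  classical
  letI : Fintype (G3 F) := Fintype.ofFinite _
  letI := Fintype.ofFinite R
  rw [av_apply, av_apply, map_sum]
  exact Finset.sum_congr rfl fun g _ => qr_mk ρ A hA _ x

/-- the trace step -/
theorem tr_step {A B : Submodule (ZMod 2) V} (hA : Inv ρ A) (R : Subgroup (G3 F))
    {W : Submodule (ZMod 2) (V ⧸ A)} (hWB : W.comap A.mkQ ≤ B)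
    (hsplit : ∀ x : V ⧸ A, (∀ g, qr ρ A hA g x - x ∈ W) → ∃ w ∈ W, ∀ g, qr ρ A hA g (x - w) = x - w)
    (htr : ∀ w ∈ W, (∀ r ∈ R, qr ρ A hA r w = w) → ∃ y ∈ W, av (qr ρ A hA) R y = w)
    (hih : ∀ v ∈ B, (∀ r ∈ R, ρ r v - v ∈ W.comap A.mkQ) → ∃ u ∈ B, v - av ρ R u ∈ Fx ρ (W.comap A.mkQ) B)
    {v : V} (hvB : v ∈ B) (hv : ∀ r ∈ R, ρ r v - v ∈ A) : ∃ u ∈ B, v - av ρ R u ∈ Fx ρ A B := by
  obtain ⟨u1, hu1, h1⟩ := hih v hvB fun r hr => le_comap W (hv r hr)
  obtain ⟨w, hw, hf⟩ := hsplit (A.mkQ (v - av ρ R u1)) fun g => by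
    rw [qr_mk, ← map_sub]
    exact h1.2 g
  have hfR : ∀ r ∈ R, qr ρ A hA r (A.mkQ (v - av ρ R u1)) = A.mkQ (v - av ρ R u1) := by
    intro r hr
    rw [qr_mk, ← sub_eq_zero, ← map_sub, mk_zero_iff, map_sub, mem_VE.1 (av_mem ρ R u1) r hr]
    have e : ρ r v - av ρ R u1 - (v - av ρ R u1) = ρ r v - v := by abel
    rw [e]
    exact hv r hr
  have hwR : ∀ r ∈ R, qr ρ A hA r w = w := by
    intro r hr
    have e1 := hf r
    rw [map_sub, hfR r hr] at e1
    exact sub_right_injective e1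
  obtain ⟨y, hy, hyw⟩ := htr w hw hwR
  obtain ⟨u2, rfl⟩ := A.mkQ_surjective y
  have hu2 : u2 ∈ B := hWB hy
  refine ⟨u1 + u2, B.add_mem hu1 hu2, ?_, fun g => ?_⟩
  · have h5 := h1.1
    have h6 : av ρ R u2 ∈ B := by
      have h7 : A.mkQ (av ρ R u2) = w := by rw [← av_qr hA, hyw]
      apply hWB
      show A.mkQ (av ρ R u2) ∈ W
      rw [h7]
      exact hw
    have e : v - av ρ R (u1 + u2) = (v - av ρ R u1) - av ρ R u2 := by rw [map_add]; abel
    rw [e]
    exact B.sub_mem h5 h6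
  · have h7 : A.mkQ (v - av ρ R (u1 + u2)) = A.mkQ (v - av ρ R u1) - w := by
      rw [← hyw, av_qr hA, ← map_sub]
      congr 1
      rw [map_add]
      abel
    rw [← mk_zero_iff, map_sub, ← qr_mk ρ A hA, h7, hf g, sub_self]

theorem ct_qr (hc : CT ρ) {A : Submodule (ZMod 2) V} (hA : Inv ρ A) : CT (qr ρ A hA) := by
  intro c hc' v
  obtain ⟨x, rfl⟩ := A.mkQ_surjective v
  rw [qr_mk, hc c hc']

/-- a simple module with `n ≠ n3` has no fixed vector -/
theorem fix_simp (hF : Fintype.card F = 4) {W : Submodule (ZMod 2) V} (hW : Simp ρ W) {n n3 n5 n7 : ℕ}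
    (hd : Dims ρ W n n3 n5 n7) (hne : n ≠ n3) : ∀ w ∈ W, (∀ g, ρ g w = w) → w = 0 := by
  intro w hw hfix
  by_contra hw0
  rcases hW.2.2 (Submodule.span (ZMod 2) {w}) (fun g x hx => by
      obtain ⟨c, rfl⟩ := Submodule.mem_span_singleton.1 hx
      rw [map_smul, hfix g]
      exact Submodule.smul_mem _ _ (Submodule.mem_span_singleton_self w))
      ((Submodule.span_singleton_le_iff_mem w W).2 hw) with h | h
  · exact hw0 (Submodule.span_singleton_eq_bot.1 h)
  · obtain ⟨g3, hg3, hg3c⟩ := Cfsg.Agent.H592.L34.exists_three (F := F) hF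
    apply hne
    have h5 : fx ρ g3 W = W := by
      rw [fx, inf_eq_left, ← h]
      intro x hx
      obtain ⟨c, rfl⟩ := Submodule.mem_span_singleton.1 hx
      rw [LinearMap.mem_ker, LinearMap.sub_apply, LinearMap.id_apply, map_smul, hfix, sub_self]
    rw [← hd.1, ← hd.2.1 g3 hg3 hg3c, h5]

/-- splitting of a Steinberg module -/
theorem split_st (hF : Fintype.card F = 4) {W : Submodule (ZMod 2) V} (hW : Simp ρ W) (h : Is64 ρ W) {x : V}
    (hx : ∀ g, ρ g x - x ∈ W) : ∃ w ∈ W, ∀ g, ρ g (x - w) = x - w := by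
  have hX : Inv ρ (W ⊔ Submodule.span (ZMod 2) {x}) := by
    intro g y hy
    obtain ⟨w, hw, z, hz, rfl⟩ := Submodule.mem_sup.1 hy
    obtain ⟨c, rfl⟩ := Submodule.mem_span_singleton.1 hz
    have e : ρ g (w + c • x) = (ρ g w + c • (ρ g x - x)) + c • x := by
      rw [map_add, map_smul, smul_sub]
      abel
    rw [e]
    exact Submodule.add_mem_sup (W.add_mem (hW.1 g w hw) (W.smul_mem c (hx g)))
      (Submodule.smul_mem _ _ (Submodule.mem_span_singleton_self x))
  obtain ⟨C, hC, h1, h2⟩ := Cfsg.Agent.H118.L34.st_compl hF hW h hX le_sup_left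
  have hxX : x ∈ W ⊔ C := by
    rw [h2]
    exact Submodule.mem_sup_right (Submodule.mem_span_singleton_self x)
  obtain ⟨w, hw, c, hcC, hwc⟩ := Submodule.mem_sup.1 hxX
  have hxc : x - w = c := by rw [← hwc]; abel
  refine ⟨w, hw, fun g => ?_⟩
  rw [hxc]
  have h3 : ρ g c - c ∈ W ⊓ C := by
    refine ⟨?_, C.sub_mem (hC g c hcC) hcC⟩
    have e : ρ g c - c = (ρ g x - x) - (ρ g w - w) := by
      rw [← hxc, map_sub]
      abel
    rw [e]
    exact W.sub_mem (hx g) (W.sub_mem (hW.1 g w hw) hw)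
  rw [h1, Submodule.mem_bot] at h3
  exact sub_eq_zero.1 h3

/-- the adjoint module has no vector fixed by `E` -/
theorem adj_R (hF : Fintype.card F = 4) {W : Submodule (ZMod 2) V} (hW : Cfsg.Agent.H745.L34.IsAdj ρ W) {v : V}
    (hv : v ∈ W) (hR : ∀ r : G3 F, hact r (1 : M3 F) = 1 → r ^ 3 = 1 → ρ r v = v) : v = 0 := by
  obtain ⟨φ, h1, h2, h3, h4⟩ := hW
  obtain ⟨X, hX, rfl⟩ := (h3 v).1 hv
  obtain ⟨w, hw⟩ := Cfsg.Agent.H904.L34.exists_omega hF
  have hw1 := Cfsg.Agent.H904.L34.w_ne_one hw hF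
  haveI := Cfsg.Agent.H902.L34.charTwo hF
  have hcomm : ∀ r : G3 F, hact r (1 : M3 F) = 1 → r ^ 3 = 1 → r.1 * X = X * r.1 := by
    intro r hr hr3
    have e := hR r hr hr3
    rw [h4 r X hX] at e
    have ht : (r.1 * X * (r⁻¹ : G3 F).1).trace = 0 := by
      rw [Matrix.trace_mul_comm, ← Matrix.mul_assoc]
      have : (r⁻¹ : G3 F).1 * r.1 = 1 := congrArg Subtype.val (inv_mul_cancel r)
      rw [this, Matrix.one_mul, hX]
    have e2 : φ (r.1 * X * (r⁻¹ : G3 F).1 + X) = 0 := by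
      rw [h1 _ _ ht hX, e]
      exact Cfsg.Agent.H902.L34.two_smul_zero _
    have e3 := h2 _ (by rw [Matrix.trace_add, ht, hX, add_zero]) e2
    have e4 : r.1 * X * (r⁻¹ : G3 F).1 = X := by
      have h5 : r.1 * X * (r⁻¹ : G3 F).1 = -X := eq_neg_of_add_eq_zero_left e3
      rw [h5]
      ext i j
      rw [Matrix.neg_apply, CharTwo.neg_eq]
    have e5 := congrArg (· * r.1) e4
    simp only [Matrix.mul_assoc] at e5
    have : (r⁻¹ : G3 F).1 * r.1 = 1 := congrArg Subtype.val (inv_mul_cancel r)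
    rw [this, Matrix.mul_one] at e5
    exact e5
  have k1 := hcomm (g1 w hw) (mem_R_g1 hw hF) (Cfsg.Agent.H904.L34.g1_cube hw)
  have k2 := hcomm g2 (mem_R_g2 hF) Cfsg.Agent.H904.L34.g2_cube
  have hw0 : w ≠ 0 := by
    rintro rfl
    simp at hw
  have hw2 : w ^ 2 ≠ 1 := by
    intro h
    rw [h] at hw
    have h5 : w = 0 := by
      have := CharTwo.two_eq_zero (R := F)
      linear_combination hw - this
    exact hw0 h5
  have hw3 : w ^ 2 ≠ w := by
    intro h
    have h5 : w * (w - 1) = 0 := by linear_combination h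
    rcases mul_eq_zero.1 h5 with h6 | h6
    · exact hw0 h6
    · exact hw1 (sub_eq_zero.1 h6)
  have c01 := congrFun (congrFun k1 0) 1
  have c02 := congrFun (congrFun k1 0) 2
  have c10 := congrFun (congrFun k1 1) 0
  have c12 := congrFun (congrFun k1 1) 2
  have c20 := congrFun (congrFun k1 2) 0
  have c21 := congrFun (congrFun k1 2) 1
  have d02 := congrFun (congrFun k2 0) 2
  have d10 := congrFun (congrFun k2 1) 0
  simp [g1, g2, Matrix.mul_apply, Fin.sum_univ_three] at c01 c02 c10 c12 c20 c21 d02 d10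
  have z : ∀ x c : F, c ≠ 1 → x = x * c → x = 0 := by
    intro x c hc h
    have h5 : x * (c - 1) = 0 := by linear_combination -h
    rcases mul_eq_zero.1 h5 with h6 | h6
    · exact h6
    · exact absurd (sub_eq_zero.1 h6) hc
  have z01 : X 0 1 = 0 := z _ w hw1 c01
  have z02 : X 0 2 = 0 := z _ _ hw2 c02
  have z10 : X 1 0 = 0 := z _ w hw1 (by rw [mul_comm]; exact c10.symm)
  have z20 : X 2 0 = 0 := z _ _ hw2 (by rw [mul_comm]; exact c20.symm)
  have z12 : X 1 2 = 0 := by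
    have h5 : X 1 2 * w = X 1 2 * w * w := by linear_combination c12
    exact (mul_eq_zero.1 (z _ w hw1 h5)).resolve_right hw0
  have z21 : X 2 1 = 0 := by
    have h5 : X 2 1 * w = X 2 1 * w * w := by linear_combination -c21
    exact (mul_eq_zero.1 (z _ w hw1 h5)).resolve_right hw0
  have z00 : X 0 0 = 0 := by
    rw [Matrix.trace_fin_three, d02, ← d10] at hX
    have := CharTwo.two_eq_zero (R := F)
    linear_combination hX - X 0 0 * this
  have hX0 : X = 0 := by
    ext i j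
    fin_cases i <;> fin_cases j <;> simp [z01, z02, z10, z12, z20, z21, z00, d02, ← d10]
  rw [hX0]
  have h5 := h1 0 0 (Matrix.trace_zero _ _) (Matrix.trace_zero _ _)
  rw [add_zero] at h5
  exact left_eq_add.1 h5

/-- splitting of the adjoint module -/
theorem split_adj (hF : Fintype.card F = 4) (hc : CT ρ) {W : Submodule (ZMod 2) V}
    (hT : Cfsg.Agent.H745.L34.IsAdj ρ W) (hW : Inv ρ W) {x : V}
    (hx : ∀ g, ρ g x - x ∈ W) : ∃ w ∈ W, ∀ g, ρ g (x - w) = x - w := by
  have hM : ∀ y ∈ W ⊔ Submodule.span (ZMod 2) {x}, ∀ g, ρ g y - y ∈ W := by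
    intro y hy g
    obtain ⟨w, hw, z, hz, rfl⟩ := Submodule.mem_sup.1 hy
    obtain ⟨c, rfl⟩ := Submodule.mem_span_singleton.1 hz
    have e : ρ g (w + c • x) - (w + c • x) = (ρ g w - w) + c • (ρ g x - x) := by
      rw [map_add, map_smul, smul_sub]
      abel
    rw [e]
    exact W.add_mem (W.sub_mem (hW g w hw) hw) (W.smul_mem c (hx g))
  have hMi : Inv ρ (W ⊔ Submodule.span (ZMod 2) {x}) := by
    intro g y hy
    have h1 := Submodule.add_mem _ (Submodule.mem_sup_left (T := Submodule.span (ZMod 2) {x}) (hM y hy g)) hy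
    rwa [sub_add_cancel] at h1
  obtain ⟨f, -, hf, hxf⟩ := Cfsg.Agent.H170.L34.h1_adj hF hc hT hMi le_sup_left hM x
    (Submodule.mem_sup_right (Submodule.mem_span_singleton_self x))
  refine ⟨x - f, hxf, fun g => ?_⟩
  have e : x - (x - f) = f := by abel
  rw [e, hf]

/-- **modules without composition factor 9** -/
theorem main (hF : Fintype.card F = 4) (hc : CT ρ) {B : Submodule (ZMod 2) V} (hB : Inv ρ B) :
    ∀ (m : ℕ) (A : Submodule (ZMod 2) V), Inv ρ A → A ≤ B →
      Module.finrank (ZMod 2) B = Module.finrank (ZMod 2) A + m → ∀ a b d : ℕ, Num ρ A B a b 0 d →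
      Module.finrank (ZMod 2) (Fx ρ A B) = Module.finrank (ZMod 2) A + a ∧
      ∀ v ∈ B, (∀ r ∈ RR hF, ρ r v - v ∈ A) → ∃ u ∈ B, v - av ρ (RR hF) u ∈ Fx ρ A B := by
  classical
  intro m
  induction m using Nat.strong_induction_on with
  | _ m ih =>
    intro A hA h hm a b d hn
    rcases eq_or_ne A B with rfl | hne
    · have h1 := hn.1
      have e1 : a = 0 := by omega
      have e2 : Fx ρ A A = A := le_antisymm (fun v hv => hv.1) (le_Fx hA le_rfl)
      refine ⟨by rw [e2, e1, add_zero], fun v hv _ => ⟨0, A.zero_mem, ?_⟩⟩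
      rw [map_zero, sub_zero, e2]
      exact hv
    · -- a simple submodule of the quotient
      have hq : B.map A.mkQ ≠ ⊥ := by
        intro h0
        apply hne
        apply le_antisymm h
        intro x hx
        have h1 : A.mkQ x ∈ B.map A.mkQ := ⟨x, hx, rfl⟩
        rw [h0, Submodule.mem_bot] at h1
        exact mk_zero_iff.1 h1
      obtain ⟨W, hWB, hW⟩ := exists_simp (inv_quot hA hB) hq
      have hcq : CT (qr ρ A hA) := ct_qr hc hA
      set A' : Submodule (ZMod 2) V := W.comap A.mkQ with hA'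
      have hA'i : Inv ρ A' := inv_comap hA hW.1
      have hAA' : A ≤ A' := le_comap W
      have hA'B : A' ≤ B := by
        intro x hx
        rw [hA', Submodule.mem_comap] at hx
        obtain ⟨y, hy, hxy⟩ := hWB hx
        have h1 : x - y ∈ A := by
          rw [← mk_zero_iff, map_sub, hxy, sub_self]
        have h2 := B.add_mem (h h1) hy
        rwa [sub_add_cancel] at h2
      have hmapA' : A'.map A.mkQ = W := Submodule.map_comap_eq_of_surjective A.mkQ_surjective W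
      have hfr := finrank_map_mkQ hAA'
      rw [hmapA'] at hfr
      have hpos : 0 < Module.finrank (ZMod 2) W := by
        rw [Module.finrank_pos_iff]
        exact Submodule.nontrivial_iff_ne_bot.2 hW.2.1
      have hm' : ∃ m' < m, Module.finrank (ZMod 2) B = Module.finrank (ZMod 2) A' + m' := by
        have h1 := Submodule.finrank_mono hA'B
        exact ⟨Module.finrank (ZMod 2) B - Module.finrank (ZMod 2) A', by omega, by omega⟩
      obtain ⟨m', hm'lt, hm'⟩ := hm'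
      obtain ⟨a', b', c', d', hn'⟩ := Cfsg.Agent.H482.LF.PL hF hc hA'i hB hA'B
      have hn'' : Num ρ A' B a' b' c' d' := hn'
      -- the end for the modules which split
      have key : ∀ a1 b1 d1 : ℕ, Num ρ A A' a1 b1 0 d1 → a1 = 0 →
          (∀ x : V ⧸ A, (∀ g, qr ρ A hA g x - x ∈ W) → ∃ w ∈ W, ∀ g, qr ρ A hA g (x - w) = x - w) →
          (∀ w ∈ W, (∀ g, qr ρ A hA g w = w) → w = 0) →
          (∀ w ∈ W, (∀ r ∈ RR hF, qr ρ A hA r w = w) → ∃ y ∈ W, av (qr ρ A hA) (RR hF) y = w) →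
          Module.finrank (ZMod 2) (Fx ρ A B) = Module.finrank (ZMod 2) A + a ∧
            ∀ v ∈ B, (∀ r ∈ RR hF, ρ r v - v ∈ A) → ∃ u ∈ B, v - av ρ (RR hF) u ∈ Fx ρ A B := by
        intro a1 b1 d1 hn1 ha1 hsplit hfix htr
        obtain ⟨f1, f2, f3, f4⟩ := num_unique hF hn (num_add hn1 hn'')
        have f5 : c' = 0 := by omega
        subst f5
        obtain ⟨ih1, ih2⟩ := ih m' hm'lt A' hA'i hA'B hm' a' b' d' hn''
        refine ⟨?_, fun v hvB hv => tr_step hA (RR hF) hA'B hsplit htr ih2 hvB hv⟩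
        have e1 := split_step hA h hW.1 hA'B hsplit hfix
        rw [← hA'] at e1
        omega
      by_cases hbw : ∃ w ∈ W, w ≠ 0 ∧ ∀ g : G3 F, g.1 1 0 = 0 → g.1 2 0 = 0 → g.1 2 1 = 0 → qr ρ A hA g w = w
      · obtain ⟨w, hw, hw0, hbw⟩ := hbw
        rcases Cfsg.Agent.H482.LF.simp_B hF hcq hW hw hw0 hbw with ht | h9 | h9 | h64
        · -- trivial
          have hd := Cfsg.Agent.H118.L34.triv_dims hW ht
          have hn1 : Num ρ A A' 1 0 0 0 := num_of_dims hA hW.1 hd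
          obtain ⟨f1, f2, f3, f4⟩ := num_unique hF hn (num_add hn1 hn'')
          have f5 : c' = 0 := by omega
          subst f5
          obtain ⟨ih1, ih2⟩ := ih m' hm'lt A' hA'i hA'B hm' a' b' d' hn''
          have e1 : Fx ρ A B = Fx ρ A' B :=
            le_antisymm (fx_le hAA') fun v hv => ⟨hv.1, fun g => triv_step hF hA ht hv.2 g⟩
          refine ⟨?_, fun v hvB hv => ?_⟩
          · rw [e1, ih1]
            have := hd.1
            omega
          · rw [e1]
            exact ih2 v hvB fun r hr => hAA' (hv r hr)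
        · exfalso
          have hn1 : Num ρ A A' 0 0 1 0 := num_of_dims hA hW.1 (Cfsg.Agent.H482.LF.nineDims hF h9)
          have f := (num_unique hF hn (num_add hn1 hn'')).2.2.1
          omega
        · exfalso
          have hn1 : Num ρ A A' 0 0 1 0 := num_of_dims hA hW.1 (Cfsg.Agent.H482.LF.nineDims hF h9)
          have f := (num_unique hF hn (num_add hn1 hn'')).2.2.1
          omega
        · have hn1 : Num ρ A A' 0 0 0 1 := num_of_dims hA hW.1 h64.1
          exact key 0 0 1 hn1 rfl (fun x hx => split_st hF hW h64 hx) (fix_simp hF hW h64.1 (by norm_num))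
            (fun w hw hR => st_trace hF hW.1 h64 (RR hF) hw hR)
      · have hadj := Cfsg.Agent.H902.L34.is_adj hF hcq hW fun w hw hBw => by
          by_contra hw0
          exact hbw ⟨w, hw, hw0, hBw⟩
        have hd := Cfsg.Agent.H745.L34.adj_dims hF hadj
        have hn1 : Num ρ A A' 0 1 0 0 := num_of_dims hA hW.1 hd
        exact key 0 1 0 hn1 rfl (fun x hx => split_adj hF hcq hadj hW.1 hx) (fix_simp hF hW hd (by norm_num))
          (fun w hw hR => ⟨0, W.zero_mem, by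
            rw [map_zero]
            exact (adj_R hF hadj hw fun r hr _ => hR r hr).symm⟩)

/-- the sum over `R` as a finsum -/
theorem TrR_eq (hF : Fintype.card F = 4) (v : V) : TrR ρ v = av ρ (RR hF) v := by
  classical
  letI : Fintype (G3 F) := Fintype.ofFinite _
  letI : Fintype (RR hF) := Fintype.ofFinite _
  rw [av_apply]
  show (∑ᶠ g : RR hF, ρ (g : G3 F) v) = _
  rw [finsum_eq_sum_of_fintype]

/-- the sum over `R` of the average over a subgroup of odd order -/
theorem av_av {G : Type*} [Group G] [Finite G] (σ : Representation (ZMod 2) G V) {R E : Subgroup G} (hE : E ≤ R)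
    (hodd : Odd (Nat.card E)) (v : V) : av σ R (av σ E v) = av σ R v := by
  classical
  letI : Fintype G := Fintype.ofFinite _
  letI : Fintype R := Fintype.ofFinite _
  letI : Fintype E := Fintype.ofFinite _
  have h1 : ∀ e : E, av σ R (σ (e : G) v) = av σ R v := by
    intro e
    rw [av_apply, av_apply]
    refine Fintype.sum_equiv (Equiv.mulRight (⟨e, hE e.2⟩ : R)) _ _ fun r => ?_
    rw [Equiv.coe_mulRight, Subgroup.coe_mul, map_mul]
    rfl
  rw [av_apply σ E, map_sum, Finset.sum_congr rfl fun e _ => h1 e, Finset.sum_const, Finset.card_univ,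
    ← Nat.card_eq_fintype_card]
  exact odd_smul hodd _

/-- (P1)(i) the fixed vectors modulo `A` -/
theorem nonine_fix (hF : Fintype.card F = 4) (hc : CT ρ) {A B : Submodule (ZMod 2) V} (hA : Inv ρ A) (hB : Inv ρ B)
    (h : A ≤ B) {a b d : ℕ} (hn : Num ρ A B a b 0 d) :
    Module.finrank (ZMod 2) (Fx ρ A B) = Module.finrank (ZMod 2) A + a :=
  (main hF hc hB _ A hA h hn.1 a b d hn).1

/-- (P1)(ii) the vectors fixed by `R` modulo `A` -/
theorem nonine_tr (hF : Fintype.card F = 4) (hc : CT ρ) {A B : Submodule (ZMod 2) V} (hA : Inv ρ A) (hB : Inv ρ B)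
    (h : A ≤ B) {a b d : ℕ} (hn : Num ρ A B a b 0 d) {E : Subgroup (G3 F)}
    (hE : ∀ g : G3 F, g ∈ E ↔ (hact g (1 : M3 F) = 1 ∧ g ^ 3 = 1)) {v : V} (hv : v ∈ B)
    (hR : ∀ r : G3 F, hact r (1 : M3 F) = 1 → ρ r v - v ∈ A) :
    ∃ u ∈ B, (∀ e ∈ E, ρ e u = u) ∧ v - TrR ρ u ∈ Fx ρ A B := by
  classical
  letI : Fintype (G3 F) := Fintype.ofFinite _
  letI : Fintype E := Fintype.ofFinite _
  obtain ⟨u, hu, h1⟩ := (main hF hc hB _ A hA h hn.1 a b d hn).2 v hv fun r hr => hR r (mem_RR.1 hr)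
  refine ⟨av ρ E u, ?_, mem_VE.1 (av_mem ρ E u), ?_⟩
  · rw [av_apply]
    exact Submodule.sum_mem _ fun g _ => hB _ _ hu
  · rw [TrR_eq hF, av_av ρ (fun g hg => mem_RR.2 ((hE g).1 hg).1) (Cfsg.Agent.H904.L34.E_odd hF hE)]
    exact h1

end main

end Cfsg.Agent.H902.NN
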