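import Cfsg.Agent.H902.L34.HK

/-!
# Simple modules with the same highest weight data are isomorphic (helper902)
-/

set_option autoImplicit false
set_option linter.unusedSectionVars false

namespace Cfsg.Agent.H902.L34

open Submodule

variable {F : Type*} [Field F] [CharP F 2] [Fintype F] [DecidableEq F]
variable {V : Type*} [AddCommGroup V] [Module (ZMod 2) V]
variable (ρ : Representation (ZMod 2) (SL3 F) V)

/-- the span of the torus orbit -/
def Sp (y : V) : Submodule (ZMod 2) V := span (ZMod 2) (Set.range fun d : Fˣ => ρ (h1 d) y)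

/-- the span of the orbit of the lower Borel subgroup -/
def DD (y : V) : Submodule (ZMod 2) V :=
  span (ZMod 2) {x | ∃ (a b c : F) (d : Fˣ), x = ρ (lo a b c) (ρ (h1 d) y)}

theorem mem_DD (y : V) (a b c : F) (d : Fˣ) : ρ (lo a b c) (ρ (h1 d) y) ∈ DD ρ y := subset_span ⟨a, b, c, d, rfl⟩

theorem Sp_le (y : V) : Sp ρ y ≤ DD ρ y := by
  rw [Sp, span_le]
  rintro _ ⟨d, rfl⟩
  have h := mem_DD ρ y 0 0 0 d
  rw [lo_zero, map_one] at h
  exact h

theorem self_mem (y : V) : y ∈ Sp ρ y := by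
  refine subset_span ⟨1, ?_⟩
  show ρ (h1 1) y = y
  rw [h1_one, map_one]
  rfl

theorem lo_DD (y : V) (a b c : F) {x : V} (hx : x ∈ DD ρ y) : ρ (lo a b c) x ∈ DD ρ y := by
  induction hx using span_induction with
  | mem x hx =>
    obtain ⟨a', b', c', d, rfl⟩ := hx
    rw [← rmul, lo_mul]
    exact mem_DD ρ y _ _ _ _
  | zero => rw [map_zero]; exact zero_mem _
  | add x z _ _ h1 h2 => rw [map_add]; exact add_mem h1 h2
  | smul r x _ h => rw [map_smul]; exact smul_mem _ _ h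

theorem h1_DD (y : V) (e : Fˣ) {x : V} (hx : x ∈ DD ρ y) : ρ (h1 e) x ∈ DD ρ y := by
  induction hx using span_induction with
  | mem x hx =>
    obtain ⟨a', b', c', d, rfl⟩ := hx
    rw [← rmul, h1_lo, rmul, ← rmul ρ (h1 e) (h1 d), h1_mul]
    exact mem_DD ρ y _ _ _ _
  | zero => rw [map_zero]; exact zero_mem _
  | add x z _ _ h1 h2 => rw [map_add]; exact add_mem h1 h2
  | smul r x _ h => rw [map_smul]; exact smul_mem _ _ h

theorem n1_mem {y : V} (hy : UFix ρ y) (ht : T1 ρ y ∈ DD ρ y) : ρ n1 y ∈ DD ρ y := by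
  have h := ht
  rw [T1_apply] at h
  have e : ∑ a : F, ρ (up a 0 0 * n1) y = ρ n1 y + ∑ d : Fˣ, ρ (up (d : F) 0 0 * n1) y := by
    have e0 : ∑ a : F, ρ (up a 0 0 * n1) y = ∑ a : F, (if a = 0 then ρ n1 y else 0) +
        ∑ a : F, (if a = 0 then 0 else ρ (up a 0 0 * n1) y) := by
      rw [← Finset.sum_add_distrib]
      refine Finset.sum_congr rfl fun a _ => ?_
      by_cases ha : a = 0
      · rw [if_pos ha, if_pos ha, ha, up_zero, one_mul, add_zero]
      · rw [if_neg ha, if_neg ha, zero_add]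
    rw [e0, Finset.sum_ite_eq' Finset.univ (0 : F) (fun _ => ρ n1 y), if_pos (Finset.mem_univ _),
      sum_units (f := fun a => if a = 0 then 0 else ρ (up a 0 0 * n1) y) (by simp)]
    congr 1
    exact Finset.sum_congr rfl fun d _ => by rw [if_neg d.ne_zero]
  rw [e] at h
  have h2 : ∑ d : Fˣ, ρ (up (d : F) 0 0 * n1) y ∈ DD ρ y := by
    refine sum_mem fun d _ => ?_
    rw [up_n1, n1_lo_a, rmul, hy, rmul]
    exact mem_DD ρ y _ _ _ _
  have h3 := sub_mem h h2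
  rwa [add_sub_cancel_right] at h3

theorem n2_mem (hF : Fintype.card F = 4) (hs : ScTriv ρ) {y : V} (hy : UFix ρ y) (ht : T2 ρ y ∈ DD ρ y) :
    ρ n2 y ∈ DD ρ y := by
  have h := ht
  rw [T2_apply] at h
  have e : ∑ a : F, ρ (up 0 a 0 * n2) y = ρ n2 y + ∑ d : Fˣ, ρ (up 0 (d : F) 0 * n2) y := by
    have e0 : ∑ a : F, ρ (up 0 a 0 * n2) y = ∑ a : F, (if a = 0 then ρ n2 y else 0) +
        ∑ a : F, (if a = 0 then 0 else ρ (up 0 a 0 * n2) y) := by
      rw [← Finset.sum_add_distrib]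
      refine Finset.sum_congr rfl fun a _ => ?_
      by_cases ha : a = 0
      · rw [if_pos ha, if_pos ha, ha, up_zero, one_mul, add_zero]
      · rw [if_neg ha, if_neg ha, zero_add]
    rw [e0, Finset.sum_ite_eq' Finset.univ (0 : F) (fun _ => ρ n2 y), if_pos (Finset.mem_univ _),
      sum_units (f := fun a => if a = 0 then 0 else ρ (up 0 a 0 * n2) y) (by simp)]
    congr 1
    exact Finset.sum_congr rfl fun d _ => by rw [if_neg d.ne_zero]
  rw [e] at h
  have h2 : ∑ d : Fˣ, ρ (up 0 (d : F) 0 * n2) y ∈ DD ρ y := by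
    refine sum_mem fun d _ => ?_
    rw [up_n2, n2_lo_b, rmul, hy, rmul, ← h_eq ρ hF hs]
    exact mem_DD ρ y _ _ _ _
  have h3 := sub_mem h h2
  rwa [add_sub_cancel_right] at h3

theorem n1_DD {y : V} (hy : UFix ρ y) (ht : T1 ρ y ∈ DD ρ y) {x : V} (hx : x ∈ DD ρ y) : ρ n1 x ∈ DD ρ y := by
  induction hx using span_induction with
  | mem x hx =>
    obtain ⟨a, b, c, d, rfl⟩ := hx
    have e1 : lo a b c = lo 0 b (c + b * a) * lo a 0 0 := by
      rw [lo_mul]
      congr 1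
      · ring
      · ring
      · rw [show c + b * a + 0 + b * a = c + (b * a + b * a) by ring, CharTwo.add_self_eq_zero, add_zero]
    rw [e1, rmul, ← rmul ρ n1, n1_lo, rmul]
    refine lo_DD ρ y _ _ _ ?_
    by_cases ha : a = 0
    · rw [ha, lo_zero, map_one]
      show ρ n1 (ρ (h1 d) y) ∈ DD ρ y
      rw [← rmul, n1_h1, rmul]
      exact h1_DD ρ y _ (n1_mem ρ hy ht)
    · have e2 := n1_lo_a (Units.mk0 a ha)
      rw [Units.val_mk0] at e2
      rw [← rmul, e2, rmul, rmul, h1_fix ρ hy, ← rmul ρ (h1 _) (h1 _), h1_mul]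
      exact mem_DD ρ y _ _ _ _
  | zero => rw [map_zero]; exact zero_mem _
  | add x z _ _ h1 h2 => rw [map_add]; exact add_mem h1 h2
  | smul r x _ h => rw [map_smul]; exact smul_mem _ _ h

theorem n2_DD (hF : Fintype.card F = 4) (hs : ScTriv ρ) {y : V} (hy : UFix ρ y) (ht : T2 ρ y ∈ DD ρ y) {x : V}
    (hx : x ∈ DD ρ y) : ρ n2 x ∈ DD ρ y := by
  induction hx using span_induction with
  | mem x hx =>
    obtain ⟨a, b, c, d, rfl⟩ := hx
    have e1 : lo a b c = lo a 0 c * lo 0 b 0 := by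
      rw [lo_mul]
      congr 1 <;> ring
    rw [e1, rmul, ← rmul ρ n2, n2_lo, rmul]
    refine lo_DD ρ y _ _ _ ?_
    by_cases ha : b = 0
    · rw [ha, lo_zero, map_one]
      show ρ n2 (ρ (h1 d) y) ∈ DD ρ y
      rw [h_eq ρ hF hs, ← rmul, n2_h2, rmul, ← h_eq ρ hF hs]
      exact h1_DD ρ y _ (n2_mem ρ hF hs hy ht)
    · have e2 := n2_lo_b (Units.mk0 b ha)
      rw [Units.val_mk0] at e2
      rw [← rmul, e2, rmul, rmul, h1_fix ρ hy, ← h_eq ρ hF hs, ← rmul ρ (h1 _) (h1 _), h1_mul]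
      exact mem_DD ρ y _ _ _ _
  | zero => rw [map_zero]; exact zero_mem _
  | add x z _ _ h1 h2 => rw [map_add]; exact add_mem h1 h2
  | smul r x _ h => rw [map_smul]; exact smul_mem _ _ h

/-- **the span is invariant** -/
theorem DD_inv (hF : Fintype.card F = 4) (hs : ScTriv ρ) {y : V} (hy : UFix ρ y) (ht1 : T1 ρ y ∈ DD ρ y)
    (ht2 : T2 ρ y ∈ DD ρ y) (g : SL3 F) {x : V} (hx : x ∈ DD ρ y) : ρ g x ∈ DD ρ y := by
  let S : Subgroup (SL3 F) :=
    { carrier := {g | ∀ x ∈ DD ρ y, ρ g x ∈ DD ρ y ∧ ρ g⁻¹ x ∈ DD ρ y}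
      one_mem' := fun x hx => by
        rw [inv_one, map_one]
        exact ⟨hx, hx⟩
      mul_mem' := fun {a b} ha hb x hx => by
        refine ⟨?_, ?_⟩
        · rw [rmul]
          exact (ha _ (hb _ hx).1).1
        · rw [mul_inv_rev, rmul]
          exact (hb _ (ha _ hx).2).2
      inv_mem' := fun {a} ha x hx => by
        rw [inv_inv]
        exact ⟨(ha x hx).2, (ha x hx).1⟩ }
  have hS : S = ⊤ := by
    refine top_of S (fun a b c x hx => ⟨lo_DD ρ y _ _ _ hx, ?_⟩) (fun x hx => ⟨n1_DD ρ hy ht1 hx, ?_⟩)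
      (fun x hx => ⟨n2_DD ρ hF hs hy ht2 hx, ?_⟩)
    · rw [lo_inv]
      exact lo_DD ρ y _ _ _ hx
    · rw [inv_eq_of_mul_eq_one_left n1_sq]
      exact n1_DD ρ hy ht1 hx
    · rw [inv_eq_of_mul_eq_one_left n2_sq]
      exact n2_DD ρ hF hs hy ht2 hx
  have hg : g ∈ S := by rw [hS]; trivial
  exact (hg x hx).1

/-- the augmentation part -/
def JJ : Submodule (ZMod 2) V := span (ZMod 2) {x | ∃ (a b c : F) (z : V), x = ρ (lo a b c) z - z}

theorem mem_JJ (a b c : F) (z : V) : ρ (lo a b c) z - z ∈ JJ ρ := subset_span ⟨a, b, c, z, rfl⟩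

theorem h1_JJ (e : Fˣ) {x : V} (hx : x ∈ JJ ρ) : ρ (h1 e) x ∈ JJ ρ := by
  induction hx using span_induction with
  | mem x hx =>
    obtain ⟨a, b, c, z, rfl⟩ := hx
    rw [map_sub, ← rmul, h1_lo, rmul]
    exact mem_JJ ρ _ _ _ _
  | zero => rw [map_zero]; exact zero_mem _
  | add x z _ _ h1 h2 => rw [map_add]; exact add_mem h1 h2
  | smul r x _ h => rw [map_smul]; exact smul_mem _ _ h

/-- the span modulo the augmentation part -/
theorem DD_le (y : V) : DD ρ y ≤ Sp ρ y ⊔ JJ ρ := by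
  rw [DD, span_le]
  rintro _ ⟨a, b, c, d, rfl⟩
  have h1 : ρ (lo a b c) (ρ (h1 d) y) = ρ (h1 d) y + (ρ (lo a b c) (ρ (h1 d) y) - ρ (h1 d) y) := by abel
  rw [SetLike.mem_coe, h1]
  exact add_mem (mem_sup_left (subset_span ⟨d, rfl⟩)) (mem_sup_right (mem_JJ ρ _ _ _ _))

/-- **Nakayama** -/
theorem JJ_ne [Finite V] [Nontrivial V] : JJ ρ ≠ ⊤ := by
  intro htop
  have hfin : Finite (Module.Dual (ZMod 2) V) := Finite.of_injective (fun f : Module.Dual (ZMod 2) V => (f : V → ZMod 2))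
    DFunLike.coe_injective
  have hnt : Nontrivial (Module.Dual (ZMod 2) V) := (Module.nontrivial_dual_iff (ZMod 2)).2 inferInstance
  obtain ⟨f, hf0, hf⟩ := exists_fix (Representation.dual ρ) (Lo F) isPGroup_Lo
  apply hf0
  have h1 : JJ ρ ≤ LinearMap.ker f := by
    rw [JJ, span_le]
    rintro _ ⟨a, b, c, z, rfl⟩
    have h2 := hf (lo a b c)⁻¹ ((Lo F).inv_mem ⟨a, b, c, rfl⟩)
    have h3 := congrArg (fun φ : Module.Dual (ZMod 2) V => φ z) h2
    simp only [Representation.dual_apply, Module.Dual.transpose_apply, inv_inv] at h3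
    rw [SetLike.mem_coe, LinearMap.mem_ker, map_sub, sub_eq_zero]
    exact h3
  rw [htop] at h1
  exact LinearMap.ker_eq_top.1 (top_le_iff.1 h1)

/-- irreducible -/
def Irr {G : Type*} [Group G] (ρ : Representation (ZMod 2) G V) : Prop :=
  ∀ W : Submodule (ZMod 2) V, (∀ g, ∀ w ∈ W, ρ g w ∈ W) → W = ⊥ ∨ W = ⊤

/-- the elements of the span of the torus orbit -/
theorem mem_Sp_cases {y : V} (h : (∀ d : Fˣ, ρ (h1 d) y = y) ∨ (Fintype.card F = 4 ∧ E ρ y = 0)) {x : V}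
    (hx : x ∈ Sp ρ y) : x = 0 ∨ ∃ d : Fˣ, x = ρ (h1 d) y := by
  induction hx using span_induction with
  | mem x hx =>
    obtain ⟨d, rfl⟩ := hx
    exact Or.inr ⟨d, rfl⟩
  | zero => exact Or.inl rfl
  | add x z _ _ hx hz =>
    rcases hx with rfl | ⟨d, rfl⟩
    · rw [zero_add]
      exact hz
    rcases hz with rfl | ⟨e, rfl⟩
    · rw [add_zero]
      exact Or.inr ⟨d, rfl⟩
    rcases h with h | ⟨hF, h⟩
    · rw [h, h, two_smul_zero]
      exact Or.inl rfl
    by_cases hde : d = e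
    · rw [hde, two_smul_zero]
      exact Or.inl rfl
    · right
      have hc : ((Finset.univ.erase d).erase e : Finset Fˣ).card = 1 := by
        rw [Finset.card_erase_of_mem (Finset.mem_erase.2 ⟨fun h => hde h.symm, Finset.mem_univ _⟩),
          Finset.card_erase_of_mem (Finset.mem_univ _), Finset.card_univ, Fintype.card_units, hF]
      obtain ⟨f, hf⟩ := Finset.card_eq_one.1 hc
      refine ⟨f, ?_⟩
      rw [E_apply, ← Finset.add_sum_erase _ _ (Finset.mem_univ d),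
        ← Finset.add_sum_erase _ _ (Finset.mem_erase.2 ⟨fun h => hde h.symm, Finset.mem_univ e⟩), hf,
        Finset.sum_singleton, ← add_assoc] at h
      have h2 := congrArg (· + ρ (h1 f) y) h
      simp only [zero_add] at h2
      rw [add_assoc, two_smul_zero, add_zero] at h2
      exact h2
  | smul r x _ hx =>
    rcases hx with rfl | ⟨d, rfl⟩
    · rw [smul_zero]
      exact Or.inl rfl
    · have hr : r = 0 ∨ r = 1 := by
        revert r
        decide
      rcases hr with rfl | rfl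
      · rw [zero_smul]
        exact Or.inl rfl
      · rw [one_smul]
        exact Or.inr ⟨d, rfl⟩

section pair

variable {V' : Type*} [AddCommGroup V'] [Module (ZMod 2) V'] (ρ' : Representation (ZMod 2) (SL3 F) V')

/-- the direct sum -/
def pr {G : Type*} [Group G] (ρ : Representation (ZMod 2) G V) (ρ' : Representation (ZMod 2) G V') :
    Representation (ZMod 2) G (V × V') where
  toFun g := (ρ g).prodMap (ρ' g)
  map_one' := by
    rw [map_one, map_one]
    rfl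
  map_mul' g h := by
    rw [map_mul, map_mul]
    rfl

theorem pr_apply {G : Type*} [Group G] (ρ : Representation (ZMod 2) G V) (ρ' : Representation (ZMod 2) G V') (g : G)
    (x : V × V') : pr ρ ρ' g x = (ρ g x.1, ρ' g x.2) := rfl

theorem pr_T1 (x : V × V') : T1 (pr ρ ρ') x = (T1 ρ x.1, T1 ρ' x.2) := by
  rw [T1_apply, T1_apply, T1_apply]
  simp_rw [pr_apply]
  exact Prod.ext (by simp [Prod.fst_sum]) (by simp [Prod.snd_sum])

theorem pr_T2 (x : V × V') : T2 (pr ρ ρ') x = (T2 ρ x.1, T2 ρ' x.2) := by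
  rw [T2_apply, T2_apply, T2_apply]
  simp_rw [pr_apply]
  exact Prod.ext (by simp [Prod.fst_sum]) (by simp [Prod.snd_sum])

theorem pr_E (x : V × V') : E (pr ρ ρ') x = (E ρ x.1, E ρ' x.2) := by
  rw [E_apply, E_apply, E_apply]
  simp_rw [pr_apply]
  exact Prod.ext (by simp [Prod.fst_sum]) (by simp [Prod.snd_sum])

theorem JJ_pr {x : V × V'} (hx : x ∈ JJ (pr ρ ρ')) : x.1 ∈ JJ ρ ∧ x.2 ∈ JJ ρ' := by
  induction hx using span_induction with
  | mem x hx =>
    obtain ⟨a, b, c, z, rfl⟩ := hx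
    exact ⟨mem_JJ ρ _ _ _ _, mem_JJ ρ' _ _ _ _⟩
  | zero => exact ⟨zero_mem _, zero_mem _⟩
  | add x z _ _ h1 h2 => exact ⟨add_mem h1.1 h2.1, add_mem h1.2 h2.2⟩
  | smul r x _ h => exact ⟨smul_mem _ _ h.1, smul_mem _ _ h.2⟩

variable {ρ ρ'}

/-- the highest weight vector is not in the augmentation part -/
theorem not_mem_JJ [Finite V] [Nontrivial V] (hF : Fintype.card F = 4) (hs : ScTriv ρ) (hirr : Irr ρ) {y : V}
    (hy0 : y ≠ 0) (hy : UFix ρ y) (ht1 : T1 ρ y ∈ DD ρ y) (ht2 : T2 ρ y ∈ DD ρ y)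
    (hc : (∀ d : Fˣ, ρ (h1 d) y = y) ∨ (Fintype.card F = 4 ∧ E ρ y = 0)) (d : Fˣ) : ρ (h1 d) y ∉ JJ ρ := by
  intro h
  apply JJ_ne ρ
  have hyJ : y ∈ JJ ρ := by
    have h2 := h1_JJ ρ d⁻¹ h
    rwa [← rmul, h1_mul, inv_mul_cancel, h1_one, map_one] at h2
  have hSp : Sp ρ y ≤ JJ ρ := by
    rw [Sp, span_le]
    rintro _ ⟨e, rfl⟩
    exact h1_JJ ρ e hyJ
  have hD : DD ρ y = ⊤ := by
    rcases hirr (DD ρ y) (fun g w hw => DD_inv ρ hF hs hy ht1 ht2 g hw) with h3 | h3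
    · exfalso
      apply hy0
      have h4 := Sp_le ρ y (self_mem ρ y)
      rw [h3] at h4
      exact (mem_bot _).1 h4
    · exact h3
  rw [eq_top_iff, ← hD]
  exact (DD_le ρ y).trans (sup_le hSp le_rfl)

/-- **CR** : irreducible modules with the same highest weight data are isomorphic. -/
theorem iso_of_data [Finite V] [Nontrivial V] [Finite V'] [Nontrivial V'] (hF : Fintype.card F = 4) (hs : ScTriv ρ)
    (hs' : ScTriv ρ') (hirr : Irr ρ) (hirr' : Irr ρ') {y : V} {y' : V'} (hy0 : y ≠ 0) (hy0' : y' ≠ 0)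
    (hy : UFix ρ y) (hy' : UFix ρ' y')
    (ht1 : T1 (pr ρ ρ') (y, y') ∈ Sp (pr ρ ρ') (y, y')) (ht2 : T2 (pr ρ ρ') (y, y') ∈ Sp (pr ρ ρ') (y, y'))
    (hc : ((∀ d : Fˣ, ρ (h1 d) y = y) ∧ ∀ d : Fˣ, ρ' (h1 d) y' = y') ∨ (E ρ y = 0 ∧ E ρ' y' = 0)) :
    ∃ e : V ≃ₗ[ZMod 2] V', e y = y' ∧ ∀ g x, e (ρ g x) = ρ' g (e x) := by
  set σ := pr ρ ρ' with hσ
  set m : V × V' := (y, y') with hm
  have hsσ : ScTriv σ := fun a h x => Prod.ext (hs a h x.1) (hs' a h x.2)
  have hmf : UFix σ m := fun a b c => Prod.ext (hy a b c) (hy' a b c)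
  have hcσ : (∀ d : Fˣ, σ (h1 d) m = m) ∨ (Fintype.card F = 4 ∧ E σ m = 0) := by
    rcases hc with h | h
    · exact Or.inl fun d => Prod.ext (h.1 d) (h.2 d)
    · exact Or.inr ⟨hF, by rw [hσ, pr_E]; exact Prod.ext h.1 h.2⟩
  have hinv : ∀ g, ∀ x ∈ DD σ m, σ g x ∈ DD σ m := fun g x hx =>
    DD_inv σ hF hsσ hmf (Sp_le σ m ht1) (Sp_le σ m ht2) g hx
  have hdec : ∀ x ∈ DD σ m, ∃ w ∈ Sp σ m, ∃ j ∈ JJ σ, w + j = x := fun x hx =>
    mem_sup.1 (DD_le σ m hx)
  -- the two projections of the span of the torus orbit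
  have hSp : ∀ w ∈ Sp σ m, w.1 ∈ Sp ρ y ∧ w.2 ∈ Sp ρ' y' := by
    intro w hw
    induction hw using span_induction with
    | mem x hx =>
      obtain ⟨d, rfl⟩ := hx
      exact ⟨subset_span ⟨d, rfl⟩, subset_span ⟨d, rfl⟩⟩
    | zero => exact ⟨zero_mem _, zero_mem _⟩
    | add x z _ _ h1 h2 => exact ⟨add_mem h1.1 h2.1, add_mem h1.2 h2.2⟩
    | smul r x _ h => exact ⟨smul_mem _ _ h.1, smul_mem _ _ h.2⟩
  have ht : T1 ρ y ∈ DD ρ y ∧ T2 ρ y ∈ DD ρ y ∧ T1 ρ' y' ∈ DD ρ' y' ∧ T2 ρ' y' ∈ DD ρ' y' := by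
    have e1 := hSp _ ht1
    have e2 := hSp _ ht2
    rw [hσ, pr_T1] at e1
    rw [hσ, pr_T2] at e2
    exact ⟨Sp_le ρ y e1.1, Sp_le ρ y e2.1, Sp_le ρ' y' e1.2, Sp_le ρ' y' e2.2⟩
  have hcρ : (∀ d : Fˣ, ρ (h1 d) y = y) ∨ (Fintype.card F = 4 ∧ E ρ y = 0) := by
    rcases hc with h | h
    · exact Or.inl h.1
    · exact Or.inr ⟨hF, h.1⟩
  have hcρ' : (∀ d : Fˣ, ρ' (h1 d) y' = y') ∨ (Fintype.card F = 4 ∧ E ρ' y' = 0) := by
    rcases hc with h | h
    · exact Or.inl h.2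
    · exact Or.inr ⟨hF, h.2⟩
  have hnJ := not_mem_JJ hF hs hirr hy0 hy ht.1 ht.2.1 hcρ
  have hnJ' := not_mem_JJ hF hs' hirr' hy0' hy' ht.2.2.1 ht.2.2.2 hcρ'
  have hmD : m ∈ DD σ m := Sp_le σ m (self_mem σ m)
  -- the kernels
  have hK1 : ∀ x, (x, (0 : V')) ∈ DD σ m → x = 0 := by
    let K : Submodule (ZMod 2) V := (DD σ m).comap (LinearMap.inl (ZMod 2) V V')
    have hK : ∀ g, ∀ w ∈ K, ρ g w ∈ K := by
      intro g w hw
      have h := hinv g _ hw
      have h2 : σ g (LinearMap.inl (ZMod 2) V V' w) = LinearMap.inl (ZMod 2) V V' (ρ g w) :=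
        Prod.ext rfl (map_zero (ρ' g))
      rw [h2] at h
      exact h
    rcases hirr K hK with h | h
    · intro x hx
      have : x ∈ K := hx
      rw [h] at this
      exact (mem_bot _).1 this
    · exfalso
      have hyK : (y, (0 : V')) ∈ DD σ m := by
        have : y ∈ K := by rw [h]; trivial
        exact this
      obtain ⟨w, hw, j, hj, hwj⟩ := hdec _ hyK
      have hjj := JJ_pr ρ ρ' hj
      rcases mem_Sp_cases σ hcσ hw with rfl | ⟨d, rfl⟩
      · rw [zero_add] at hwj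
        rw [hwj] at hjj
        have := hnJ 1
        rw [h1_one, map_one] at this
        exact this hjj.1
      · have h2 : ρ' (h1 d) y' + j.2 = 0 := congrArg Prod.snd hwj
        apply hnJ' d
        rw [add_eq_zero_iff_eq_neg] at h2
        rw [h2]
        exact neg_mem hjj.2
  have hK2 : ∀ x, ((0 : V), x) ∈ DD σ m → x = 0 := by
    let K : Submodule (ZMod 2) V' := (DD σ m).comap (LinearMap.inr (ZMod 2) V V')
    have hK : ∀ g, ∀ w ∈ K, ρ' g w ∈ K := by
      intro g w hw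
      have h := hinv g _ hw
      have h2 : σ g (LinearMap.inr (ZMod 2) V V' w) = LinearMap.inr (ZMod 2) V V' (ρ' g w) :=
        Prod.ext (map_zero (ρ g)) rfl
      rw [h2] at h
      exact h
    rcases hirr' K hK with h | h
    · intro x hx
      have : x ∈ K := hx
      rw [h] at this
      exact (mem_bot _).1 this
    · exfalso
      have hyK : ((0 : V), y') ∈ DD σ m := by
        have : y' ∈ K := by rw [h]; trivial
        exact this
      obtain ⟨w, hw, j, hj, hwj⟩ := hdec _ hyK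
      have hjj := JJ_pr ρ ρ' hj
      rcases mem_Sp_cases σ hcσ hw with rfl | ⟨d, rfl⟩
      · rw [zero_add] at hwj
        rw [hwj] at hjj
        have := hnJ' 1
        rw [h1_one, map_one] at this
        exact this hjj.2
      · have h2 : ρ (h1 d) y + j.1 = 0 := congrArg Prod.fst hwj
        apply hnJ d
        rw [add_eq_zero_iff_eq_neg] at h2
        rw [h2]
        exact neg_mem hjj.1
  -- the projections
  let p1 : DD σ m →ₗ[ZMod 2] V := (LinearMap.fst (ZMod 2) V V').comp (DD σ m).subtype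
  let p2 : DD σ m →ₗ[ZMod 2] V' := (LinearMap.snd (ZMod 2) V V').comp (DD σ m).subtype
  have hb1 : Function.Bijective p1 := by
    constructor
    · rw [injective_iff_map_eq_zero]
      rintro ⟨⟨a, b⟩, hx⟩ h
      have ha : a = 0 := h
      subst ha
      exact Subtype.ext (Prod.ext rfl (hK2 b hx))
    · have hR : ∀ g, ∀ w ∈ LinearMap.range p1, ρ g w ∈ LinearMap.range p1 := by
        rintro g _ ⟨⟨x, hx⟩, rfl⟩
        exact ⟨⟨σ g x, hinv g x hx⟩, rfl⟩
      rcases hirr _ hR with h | h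
      · exfalso
        apply hy0
        have : y ∈ LinearMap.range p1 := ⟨⟨m, hmD⟩, rfl⟩
        rw [h] at this
        exact (mem_bot _).1 this
      · exact LinearMap.range_eq_top.1 h
  have hb2 : Function.Bijective p2 := by
    constructor
    · rw [injective_iff_map_eq_zero]
      rintro ⟨⟨a, b⟩, hx⟩ h
      have hb : b = 0 := h
      subst hb
      exact Subtype.ext (Prod.ext (hK1 a hx) rfl)
    · have hR : ∀ g, ∀ w ∈ LinearMap.range p2, ρ' g w ∈ LinearMap.range p2 := by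
        rintro g _ ⟨⟨x, hx⟩, rfl⟩
        exact ⟨⟨σ g x, hinv g x hx⟩, rfl⟩
      rcases hirr' _ hR with h | h
      · exfalso
        apply hy0'
        have : y' ∈ LinearMap.range p2 := ⟨⟨m, hmD⟩, rfl⟩
        rw [h] at this
        exact (mem_bot _).1 this
      · exact LinearMap.range_eq_top.1 h
  let e1 := LinearEquiv.ofBijective p1 hb1
  let e2 := LinearEquiv.ofBijective p2 hb2
  have he : ∀ x : DD σ m, (e1.symm.trans e2) (x : V × V').1 = (x : V × V').2 := by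
    intro x
    have h2 : e1.symm (x : V × V').1 = x := by
      rw [LinearEquiv.symm_apply_eq]
      rfl
    show e2 (e1.symm (x : V × V').1) = _
    rw [h2]
    rfl
  refine ⟨e1.symm.trans e2, he ⟨m, hmD⟩, fun g x => ?_⟩
  obtain ⟨⟨z, hz⟩, rfl⟩ := hb1.2 x
  have h3 := he ⟨z, hz⟩
  have h4 := he ⟨σ g z, hinv g z hz⟩
  show (e1.symm.trans e2) (ρ g z.1) = ρ' g ((e1.symm.trans e2) z.1)
  have h3' : (e1.symm.trans e2) z.1 = z.2 := h3
  have h4' : (e1.symm.trans e2) (ρ g z.1) = ρ' g z.2 := h4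
  rw [h3', h4']

/-- torus trivial -/
theorem iso_of_dat [Finite V] [Finite V'] (hF : Fintype.card F = 4) (hs : ScTriv ρ)
    (hs' : ScTriv ρ') (hirr : Irr ρ) (hirr' : Irr ρ') {y : V} {y' : V'} {a b : ZMod 2} (hy : Dat ρ y a b)
    (hy' : Dat ρ' y' a b) : ∃ e : V ≃ₗ[ZMod 2] V', e y = y' ∧ ∀ g x, e (ρ g x) = ρ' g (e x) := by
  have : Nontrivial V := ⟨y, 0, hy.ne⟩
  have : Nontrivial V' := ⟨y', 0, hy'.ne⟩
  refine iso_of_data hF hs hs' hirr hirr' hy.ne hy'.ne hy.fix hy'.fix ?_ ?_ (Or.inl ⟨hy.tor, hy'.tor⟩)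
  · have h : T1 (pr ρ ρ') (y, y') = a • (y, y') := by
      rw [pr_T1]
      exact Prod.ext hy.t1 hy'.t1
    rw [h]
    exact smul_mem _ _ (self_mem _ _)
  · have h : T2 (pr ρ ρ') (y, y') = b • (y, y') := by
      rw [pr_T2]
      exact Prod.ext hy.t2 hy'.t2
    rw [h]
    exact smul_mem _ _ (self_mem _ _)

/-- torus nontrivial -/
theorem iso_of_datN [Finite V] [Finite V'] (hF : Fintype.card F = 4) (hs : ScTriv ρ)
    (hs' : ScTriv ρ') (hirr : Irr ρ) (hirr' : Irr ρ') {y : V} {y' : V'} (hy : DatN ρ y)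
    (hy' : DatN ρ' y') : ∃ e : V ≃ₗ[ZMod 2] V', e y = y' ∧ ∀ g x, e (ρ g x) = ρ' g (e x) := by
  have : Nontrivial V := ⟨y, 0, hy.ne⟩
  have : Nontrivial V' := ⟨y', 0, hy'.ne⟩
  refine iso_of_data hF hs hs' hirr hirr' hy.ne hy'.ne hy.fix hy'.fix ?_ ?_ (Or.inr ⟨hy.tor, hy'.tor⟩)
  · have h : T1 (pr ρ ρ') (y, y') = 0 := by
      rw [pr_T1]
      exact Prod.ext hy.t1 hy'.t1
    rw [h]
    exact zero_mem _
  · have h : T2 (pr ρ ρ') (y, y') = 0 := by
      rw [pr_T2]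
      exact Prod.ext hy.t2 hy'.t2
    rw [h]
    exact zero_mem _

end pair

end Cfsg.Agent.H902.L34
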