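import Cfsg.Agent.H902.L34.SL

/-!
# Highest weight vectors of `SL₃(4)` over `F₂` (helper902)
-/

set_option autoImplicit false
set_option linter.unusedSectionVars false

namespace Cfsg.Agent.H902.L34

variable {F : Type*} [Field F] [CharP F 2] [Fintype F] [DecidableEq F]
variable {V : Type*} [AddCommGroup V] [Module (ZMod 2) V]

theorem rmul {G : Type*} [Group G] (ρ : Representation (ZMod 2) G V) (g h : G) (y : V) :
    ρ (g * h) y = ρ g (ρ h y) := by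
  rw [map_mul]
  rfl

theorem two_smul_zero (y : V) : y + y = 0 := by
  have h : (2 : ZMod 2) • y = 0 := by
    rw [show (2 : ZMod 2) = 0 from rfl, zero_smul]
  rwa [two_smul] at h

/-- the first Hecke operator -/
noncomputable def T1 (ρ : Representation (ZMod 2) (SL3 F) V) : V →ₗ[ZMod 2] V := ∑ a : F, ρ (up a 0 0 * n1)

/-- the second Hecke operator -/
noncomputable def T2 (ρ : Representation (ZMod 2) (SL3 F) V) : V →ₗ[ZMod 2] V := ∑ a : F, ρ (up 0 a 0 * n2)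

theorem T1_apply (ρ : Representation (ZMod 2) (SL3 F) V) (y : V) : T1 ρ y = ∑ a : F, ρ (up a 0 0 * n1) y := by
  rw [T1, LinearMap.sum_apply]

theorem T2_apply (ρ : Representation (ZMod 2) (SL3 F) V) (y : V) : T2 ρ y = ∑ a : F, ρ (up 0 a 0 * n2) y := by
  rw [T2, LinearMap.sum_apply]

/-- fixed by the upper unitriangular group -/
def UFix (ρ : Representation (ZMod 2) (SL3 F) V) (y : V) : Prop := ∀ a b c, ρ (up a b c) y = y

variable (ρ : Representation (ZMod 2) (SL3 F) V)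

theorem T1_fix {y : V} (hy : UFix ρ y) : UFix ρ (T1 ρ y) := by
  intro a b c
  rw [T1_apply, map_sum]
  refine Fintype.sum_equiv (Equiv.addLeft a) _ _ fun d => ?_
  rw [← rmul, ← mul_assoc, Equiv.coe_addLeft, up_mul]
  have h1 : up (a + d) (b + 0) (c + 0 + a * 0) = up (a + d) 0 0 * up 0 b (c + (a + d) * b) := by
    rw [up_mul]
    congr 1
    · ring
    · ring
    · rw [show 0 + (c + (a + d) * b) + (a + d) * b = c + ((a + d) * b + (a + d) * b) by ring,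
        CharTwo.add_self_eq_zero]
      ring
  have h2 : up 0 b (c + (a + d) * b) * n1 = n1 * up 0 (c + (a + d) * b) b := (n1_up _ _).symm
  rw [h1, mul_assoc, h2, ← mul_assoc, rmul, hy]

theorem T2_fix {y : V} (hy : UFix ρ y) : UFix ρ (T2 ρ y) := by
  intro a b c
  rw [T2_apply, map_sum]
  refine Fintype.sum_equiv (Equiv.addLeft b) _ _ fun d => ?_
  rw [← rmul, ← mul_assoc, Equiv.coe_addLeft, up_mul]
  have h1 : up (a + 0) (b + d) (c + 0 + a * d) = up 0 (b + d) 0 * up a 0 (c + a * d) := by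
    rw [up_mul]
    congr 1 <;> ring
  have h2 : up a 0 (c + a * d) * n2 = n2 * up (c + a * d) 0 a := (n2_up _ _).symm
  rw [h1, mul_assoc, h2, ← mul_assoc, rmul, hy]

/-- the sum over the torus -/
noncomputable def E (ρ : Representation (ZMod 2) (SL3 F) V) : V →ₗ[ZMod 2] V := ∑ d : Fˣ, ρ (h1 d)

theorem E_apply (y : V) : E ρ y = ∑ d : Fˣ, ρ (h1 d) y := by
  rw [E, LinearMap.sum_apply]

/-- the scalars act trivially -/
def ScTriv (ρ : Representation (ZMod 2) (SL3 F) V) : Prop := ∀ (a : Fˣ) (h : a ^ 3 = 1) (y : V), ρ (sc a h) y = y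

theorem cube (hF : Fintype.card F = 4) (a : Fˣ) : a ^ 3 = 1 := by
  have : Fintype.card Fˣ = 3 := by rw [Fintype.card_units, hF]
  rw [← this]
  exact pow_card_eq_one

theorem h_eq (hF : Fintype.card F = 4) (hs : ScTriv ρ) (a : Fˣ) (y : V) : ρ (h1 a) y = ρ (h2 a) y := by
  rw [h1_eq a (cube hF a), rmul, hs]

theorem sum_const (hF : Fintype.card F = 4) (y : V) : ∑ _a : F, y = 0 := by
  rw [Finset.sum_const, Finset.card_univ, hF, show (4 : ℕ) = 2 * 2 from rfl, mul_smul, two_nsmul y,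
    two_smul_zero, smul_zero]

theorem sum_units {f : F → V} (h0 : f 0 = 0) : ∑ a : F, f a = ∑ d : Fˣ, f d := by
  classical
  refine (Finset.sum_of_injOn (fun d : Fˣ => (d : F)) (fun a _ b _ h => Units.ext h)
    (fun a _ => Finset.mem_coe.2 (Finset.mem_univ _)) (fun a _ ha => ?_) (fun _ _ => rfl)).symm
  by_cases h : a = 0
  · rw [h, h0]
  · exact absurd ⟨Units.mk0 a h, Finset.mem_coe.2 (Finset.mem_univ _), rfl⟩ ha

theorem T1_sq (hF : Fintype.card F = 4) {y : V} (hy : UFix ρ y) : T1 ρ (T1 ρ y) = T1 ρ (E ρ y) := by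
  have h0 : T1 ρ (T1 ρ y) = ∑ b : F, ∑ a : F, ρ (up a 0 0 * n1) (ρ (up b 0 0 * n1) y) := by
    rw [T1_apply, T1_apply]
    simp_rw [map_sum]
    exact Finset.sum_comm
  rw [h0, sum_units, E_apply, map_sum]
  · refine Finset.sum_congr rfl fun d _ => ?_
    rw [T1_apply]
    refine Fintype.sum_equiv (Equiv.addRight ((d : F)⁻¹)) _ _ fun a => ?_
    rw [Equiv.coe_addRight, ← rmul]
    have e1 : up a 0 0 * n1 * (up (d : F) 0 0 * n1) = up (a + (d : F)⁻¹) 0 0 * n1 * h1 d * up (d : F)⁻¹ 0 0 := by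
      rw [up_n1 (d : F), mul_assoc, ← mul_assoc n1 n1, n1_sq, one_mul, lo_eq, ← mul_assoc, ← mul_assoc, ← mul_assoc,
        up_mul]
      congr 4
      · ring
      · ring
    rw [e1, rmul, hy, rmul]
  · rw [← sum_const hF y]
    refine Finset.sum_congr rfl fun a _ => ?_
    rw [← rmul, up_zero, one_mul, mul_assoc, n1_sq, mul_one, hy]

theorem T2_sq (hF : Fintype.card F = 4) (hs : ScTriv ρ) {y : V} (hy : UFix ρ y) : T2 ρ (T2 ρ y) = T2 ρ (E ρ y) := by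
  have h0 : T2 ρ (T2 ρ y) = ∑ b : F, ∑ a : F, ρ (up 0 a 0 * n2) (ρ (up 0 b 0 * n2) y) := by
    rw [T2_apply, T2_apply]
    simp_rw [map_sum]
    exact Finset.sum_comm
  rw [h0, sum_units, E_apply, map_sum]
  · refine Finset.sum_congr rfl fun d _ => ?_
    rw [T2_apply, h_eq ρ hF hs]
    refine Fintype.sum_equiv (Equiv.addRight ((d : F)⁻¹)) _ _ fun a => ?_
    rw [Equiv.coe_addRight, ← rmul]
    have e1 : up 0 a 0 * n2 * (up 0 (d : F) 0 * n2) = up 0 (a + (d : F)⁻¹) 0 * n2 * h2 d * up 0 (d : F)⁻¹ 0 := by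
      rw [up_n2 (d : F), mul_assoc, ← mul_assoc n2 n2, n2_sq, one_mul, lo_eq', ← mul_assoc, ← mul_assoc, ← mul_assoc,
        up_mul]
      congr 4
      · ring
      · ring
    rw [e1, rmul, hy, rmul]
  · rw [← sum_const hF y]
    refine Finset.sum_congr rfl fun a _ => ?_
    rw [← rmul, up_zero, one_mul, mul_assoc, n2_sq, mul_one, hy]

theorem T_braid (y : V) : T1 ρ (T2 ρ (T1 ρ y)) = T2 ρ (T1 ρ (T2 ρ y)) := by
  have e1 : T1 ρ (T2 ρ (T1 ρ y)) = ∑ a : F, ∑ b : F, ∑ c : F, ρ (up a c (a * c + b)) (ρ (n1 * n2 * n1) y) := by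
    simp_rw [T1_apply, T2_apply, map_sum, ← rmul]
    refine Finset.sum_congr rfl fun a _ => Finset.sum_congr rfl fun b _ => Finset.sum_congr rfl fun c _ => ?_
    rw [← braid_left]
    congr 2
    group
  have e2 : T2 ρ (T1 ρ (T2 ρ y)) = ∑ a : F, ∑ b : F, ∑ c : F, ρ (up c a b) (ρ (n1 * n2 * n1) y) := by
    simp_rw [T1_apply, T2_apply, map_sum, ← rmul]
    refine Finset.sum_congr rfl fun a _ => Finset.sum_congr rfl fun b _ => Finset.sum_congr rfl fun c _ => ?_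
    rw [← braid_right]
    congr 2
    group
  have e3 : ∑ a : F, ∑ b : F, ∑ c : F, ρ (up a c (a * c + b)) (ρ (n1 * n2 * n1) y) =
      ∑ a : F, ∑ c : F, ∑ b : F, ρ (up a c b) (ρ (n1 * n2 * n1) y) := by
    refine Finset.sum_congr rfl fun a _ => ?_
    rw [Finset.sum_comm]
    refine Finset.sum_congr rfl fun c _ => ?_
    exact Fintype.sum_equiv (Equiv.addLeft (a * c)) _ _ fun b => rfl
  have e4 : ∑ a : F, ∑ b : F, ∑ c : F, ρ (up c a b) (ρ (n1 * n2 * n1) y) =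
      ∑ a : F, ∑ c : F, ∑ b : F, ρ (up a c b) (ρ (n1 * n2 * n1) y) := by
    rw [Finset.sum_comm' (s := Finset.univ) (t := fun _ => Finset.univ) (t' := Finset.univ) (s' := fun _ => Finset.univ)
      (by simp)]
    rw [Finset.sum_congr rfl fun b _ => Finset.sum_comm]
    rw [Finset.sum_comm]
    refine Finset.sum_congr rfl fun c _ => ?_
    rw [Finset.sum_comm]
  rw [e1, e2, e3, e4]

/-- `E` and the torus -/
theorem h1_one : h1 (1 : Fˣ) = 1 := by
  apply ext3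
  intro i j
  fin_cases i <;> fin_cases j <;> simp [h1]

theorem h1_E (d : Fˣ) (y : V) : ρ (h1 d) (E ρ y) = E ρ y := by
  rw [E_apply, map_sum]
  refine Fintype.sum_equiv (Equiv.mulLeft d) _ _ fun e => ?_
  rw [← rmul, h1_mul, Equiv.coe_mulLeft]

theorem h1_fix {y : V} (hy : UFix ρ y) (d : Fˣ) : UFix ρ (ρ (h1 d) y) := by
  intro a b c
  have e : up a b c * h1 d = h1 d * up ((d : F)⁻¹ * a * (d : F)⁻¹) (d * b) ((d : F)⁻¹ * c) := by
    rw [h1_up]
    congr 1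
    have hd : (d : F) ≠ 0 := d.ne_zero
    congr 1
    · field_simp
    · field_simp
    · field_simp
  rw [← rmul, e, rmul, hy]

theorem E_fix {y : V} (hy : UFix ρ y) : UFix ρ (E ρ y) := by
  intro a b c
  rw [E_apply, map_sum]
  exact Finset.sum_congr rfl fun d _ => h1_fix ρ hy d a b c

theorem E_of_fix (hF : Fintype.card F = 4) {y : V} (h : ∀ d : Fˣ, ρ (h1 d) y = y) : E ρ y = y := by
  rw [E_apply, Finset.sum_congr rfl fun d _ => h d, Finset.sum_const, Finset.card_univ, Fintype.card_units, hF,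
    show 4 - 1 = 2 + 1 from rfl, add_smul, one_smul, two_nsmul, two_smul_zero, zero_add]

theorem T1_tor {y : V} (h : ∀ d : Fˣ, ρ (h1 d) y = y) (d : Fˣ) : ρ (h1 d) (T1 ρ y) = T1 ρ y := by
  rw [T1_apply, map_sum]
  refine Fintype.sum_equiv (Equiv.mulLeft₀ ((d : F) * d) (mul_ne_zero d.ne_zero d.ne_zero)) _ _ fun a => ?_
  rw [← rmul, ← mul_assoc, h1_up, mul_assoc]
  have e : h1 d * n1 = n1 * h1 d⁻¹ := by
    rw [n1_h1, inv_inv]
  rw [e, ← mul_assoc, rmul, h]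
  congr 3
  simp only [mul_zero]
  congr 1
  show (d : F) * a * d = (d : F) * d * a
  ring

theorem T2_tor (hF : Fintype.card F = 4) (hs : ScTriv ρ) {y : V} (h : ∀ d : Fˣ, ρ (h1 d) y = y) (d : Fˣ) :
    ρ (h1 d) (T2 ρ y) = T2 ρ y := by
  rw [h_eq ρ hF hs, T2_apply, map_sum]
  refine Fintype.sum_equiv (Equiv.mulLeft₀ ((d : F) * d) (mul_ne_zero d.ne_zero d.ne_zero)) _ _ fun a => ?_
  rw [← rmul, ← mul_assoc, h2_up, mul_assoc]
  have e : h2 d * n2 = n2 * h2 d⁻¹ := by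
    rw [n2_h2, inv_inv]
  rw [e, ← mul_assoc, rmul, ← h_eq ρ hF hs, h]
  congr 3
  simp only [mul_zero]
  congr 1
  show (d : F) * a * d = (d : F) * d * a
  ring

/-- highest weight vector, torus trivial -/
structure Dat (ρ : Representation (ZMod 2) (SL3 F) V) (y : V) (e1 e2 : ZMod 2) : Prop where
  ne : y ≠ 0
  fix : UFix ρ y
  tor : ∀ d : Fˣ, ρ (h1 d) y = y
  t1 : T1 ρ y = e1 • y
  t2 : T2 ρ y = e2 • y

/-- highest weight vector, torus nontrivial -/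
structure DatN (ρ : Representation (ZMod 2) (SL3 F) V) (y : V) : Prop where
  ne : y ≠ 0
  fix : UFix ρ y
  tor : E ρ y = 0
  t1 : T1 ρ y = 0
  t2 : T2 ρ y = 0

/-- a fixed vector of a `2`-group -/
theorem exists_fix {G : Type*} [Group G] [Finite V] [Nontrivial V] (σ : Representation (ZMod 2) G V) (P : Subgroup G)
    (hP : IsPGroup 2 P) : ∃ y : V, y ≠ 0 ∧ ∀ g ∈ P, σ g y = y := by
  classical
  have : Fact (Nat.Prime 2) := ⟨Nat.prime_two⟩
  let _ : MulAction P V :=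
    { smul := fun g v => σ g v
      one_smul := fun v => by
        show σ 1 v = v
        rw [map_one]
        rfl
      mul_smul := fun g h v => rmul σ g h v }
  have hdvd : 2 ∣ Nat.card V := by
    obtain ⟨v, hv⟩ := exists_ne (0 : V)
    have h1 : addOrderOf v = 2 := by
      refine addOrderOf_eq_prime ?_ hv
      rw [two_nsmul, two_smul_zero]
    rw [← h1]
    exact addOrderOf_dvd_natCard v
  have h0 : (0 : V) ∈ MulAction.fixedPoints P V := fun g => map_zero (σ g)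
  obtain ⟨y, hy, hy0⟩ := hP.exists_fixed_point_of_prime_dvd_card_of_fixed_point V hdvd h0
  exact ⟨y, hy0.symm, fun g hg => hy ⟨g, hg⟩⟩

theorem exists_uFix [Finite V] [Nontrivial V] : ∃ y : V, y ≠ 0 ∧ UFix ρ y := by
  obtain ⟨y, hy, h⟩ := exists_fix ρ (Up F) isPGroup_Up
  exact ⟨y, hy, fun a b c => h _ ⟨a, b, c, rfl⟩⟩

/-- **HK** : every nonzero module has a highest weight vector. -/
theorem exists_dat [Finite V] [Nontrivial V] (hF : Fintype.card F = 4) (hs : ScTriv ρ) :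
    (∃ (y : V) (e1 e2 : ZMod 2), Dat ρ y e1 e2) ∨ ∃ y : V, DatN ρ y := by
  obtain ⟨y, hy, hfix⟩ := exists_uFix ρ
  by_cases hE : ∃ y : V, UFix ρ y ∧ E ρ y ≠ 0
  · left
    obtain ⟨x, hx, hxE⟩ := hE
    obtain ⟨y, hy0, hyf, hyt⟩ : ∃ y : V, y ≠ 0 ∧ UFix ρ y ∧ ∀ d : Fˣ, ρ (h1 d) y = y :=
      ⟨E ρ x, hxE, E_fix ρ hx, fun d => h1_E ρ d x⟩
    have s1 : ∀ y : V, UFix ρ y → (∀ d : Fˣ, ρ (h1 d) y = y) → T1 ρ (T1 ρ y) = T1 ρ y := fun y h h' => by
      rw [T1_sq ρ hF h, E_of_fix ρ hF h']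
    have s2 : ∀ y : V, UFix ρ y → (∀ d : Fˣ, ρ (h1 d) y = y) → T2 ρ (T2 ρ y) = T2 ρ y := fun y h h' => by
      rw [T2_sq ρ hF hs h, E_of_fix ρ hF h']
    have f1 : ∀ y : V, UFix ρ y → UFix ρ (T1 ρ y) := fun y h => T1_fix ρ h
    have f2 : ∀ y : V, UFix ρ y → UFix ρ (T2 ρ y) := fun y h => T2_fix ρ h
    have g1 : ∀ y : V, (∀ d : Fˣ, ρ (h1 d) y = y) → ∀ d : Fˣ, ρ (h1 d) (T1 ρ y) = T1 ρ y := fun y h => T1_tor ρ h
    have g2 : ∀ y : V, (∀ d : Fˣ, ρ (h1 d) y = y) → ∀ d : Fˣ, ρ (h1 d) (T2 ρ y) = T2 ρ y := fun y h => T2_tor ρ hF hs h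
    by_cases c1 : T1 ρ y = 0
    · by_cases c2 : T2 ρ y = 0
      · exact ⟨y, 0, 0, hy0, hyf, hyt, by rw [c1, zero_smul], by rw [c2, zero_smul]⟩
      · by_cases c3 : T1 ρ (T2 ρ y) = 0
        · exact ⟨T2 ρ y, 0, 1, c2, f2 _ hyf, g2 _ hyt, by rw [c3, zero_smul], by rw [one_smul, s2 _ hyf hyt]⟩
        · refine ⟨T1 ρ (T2 ρ y), 1, 0, c3, f1 _ (f2 _ hyf), g1 _ (g2 _ hyt), ?_, ?_⟩
          · rw [one_smul, s1 _ (f2 _ hyf) (g2 _ hyt)]
          · rw [zero_smul, ← T_braid, c1, map_zero, map_zero]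
    · by_cases c2 : T2 ρ (T1 ρ y) = 0
      · exact ⟨T1 ρ y, 1, 0, c1, f1 _ hyf, g1 _ hyt, by rw [one_smul, s1 _ hyf hyt], by rw [c2, zero_smul]⟩
      · by_cases c3 : T1 ρ (T2 ρ (T1 ρ y)) = 0
        · refine ⟨T2 ρ (T1 ρ y), 0, 1, c2, f2 _ (f1 _ hyf), g2 _ (g1 _ hyt), by rw [c3, zero_smul], ?_⟩
          rw [one_smul, s2 _ (f1 _ hyf) (g1 _ hyt)]
        · refine ⟨T1 ρ (T2 ρ (T1 ρ y)), 1, 1, c3, f1 _ (f2 _ (f1 _ hyf)), g1 _ (g2 _ (g1 _ hyt)), ?_, ?_⟩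
          · rw [one_smul, s1 _ (f2 _ (f1 _ hyf)) (g2 _ (g1 _ hyt))]
          · rw [one_smul, ← T_braid, s1 _ hyf hyt]
  · right
    push Not at hE
    have s1 : ∀ y : V, UFix ρ y → T1 ρ (T1 ρ y) = 0 := fun y h => by rw [T1_sq ρ hF h, hE y h, map_zero]
    have s2 : ∀ y : V, UFix ρ y → T2 ρ (T2 ρ y) = 0 := fun y h => by rw [T2_sq ρ hF hs h, hE y h, map_zero]
    have f1 : ∀ y : V, UFix ρ y → UFix ρ (T1 ρ y) := fun y h => T1_fix ρ h
    have f2 : ∀ y : V, UFix ρ y → UFix ρ (T2 ρ y) := fun y h => T2_fix ρ h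
    by_cases c1 : T1 ρ y = 0
    · by_cases c2 : T2 ρ y = 0
      · exact ⟨y, hy, hfix, hE _ hfix, c1, c2⟩
      · by_cases c3 : T1 ρ (T2 ρ y) = 0
        · exact ⟨T2 ρ y, c2, f2 _ hfix, hE _ (f2 _ hfix), c3, s2 _ hfix⟩
        · refine ⟨T1 ρ (T2 ρ y), c3, f1 _ (f2 _ hfix), hE _ (f1 _ (f2 _ hfix)), s1 _ (f2 _ hfix), ?_⟩
          rw [← T_braid, c1, map_zero, map_zero]
    · by_cases c2 : T2 ρ (T1 ρ y) = 0
      · exact ⟨T1 ρ y, c1, f1 _ hfix, hE _ (f1 _ hfix), s1 _ hfix, c2⟩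
      · by_cases c3 : T1 ρ (T2 ρ (T1 ρ y)) = 0
        · exact ⟨T2 ρ (T1 ρ y), c2, f2 _ (f1 _ hfix), hE _ (f2 _ (f1 _ hfix)), c3, s2 _ (f1 _ hfix)⟩
        · refine ⟨T1 ρ (T2 ρ (T1 ρ y)), c3, f1 _ (f2 _ (f1 _ hfix)), hE _ (f1 _ (f2 _ (f1 _ hfix))),
            s1 _ (f2 _ (f1 _ hfix)), ?_⟩
          rw [← T_braid, s1 _ hfix, map_zero, map_zero]

end Cfsg.Agent.H902.L34
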